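import Groth.Agent.StackCountLib.H1Sch
import Groth.Prelude.Def_ActBC
import Groth.Agent.GrpShear

/-!
# Points of a classifying stack over a scheme over the base, as torsors after base change

A torsor under the base-changed group is, by composing with the structure morphism, an object of the
classifying stack lying over the new base, and conversely.
-/

set_option autoImplicit false
set_option linter.all false
set_option backward.isDefEq.respectTransparency false
set_option backward.isDefEq.respectTransparency.types false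

noncomputable section

universe u

open CategoryTheory CategoryTheory.Limits MonoidalCategory CartesianMonoidalCategory AlgebraicGeometry
open scoped MonObj

attribute [-instance] CategoryTheory.Hom.commGroup

namespace StackCountLib

namespace BC

variable {S S' : Scheme.{u}} {f : S' ⟶ S} {G : Over S} [GrpObj G]

/-- Points of the base change are points over the base. -/
abbrev e (U : Over S') : ((Over.map f).obj U ⟶ G) ≃ (U ⟶ Red.bc f G) := (Over.mapPullbackAdj f).homEquiv U G

theorem e_one (U : Over S') : e U (1 : (Over.map f).obj U ⟶ G) = 1 := by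
  have h := AlgGrp.Action.homEquiv_mul f (1 : (Over.map f).obj U ⟶ G) 1
  rw [one_mul] at h
  exact mul_eq_left.1 h.symm

theorem e_nat {U V : Over S'} (s : U ⟶ V) (g : (Over.map f).obj V ⟶ G) :
    s ≫ e V g = e U ((Over.map f).map s ≫ g) :=
  ((Over.mapPullbackAdj f).homEquiv_naturality_left s g).symm

section Down

variable {P : Over S'} (b : AlgGrp.Action (Red.bc f G) P)

/-- A scheme over the base with a map to the new base, as a scheme over the new base. -/
abbrev src {W : Over S} (x : W ⟶ (Over.map f).obj P) : Over S' := Over.mk (x.left ≫ P.hom)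

/-- The identity of such a scheme. -/
abbrev srcTo {W : Over S} (x : W ⟶ (Over.map f).obj P) : (Over.map f).obj (src x) ⟶ W :=
  Over.homMk (𝟙 W.left) (by
    show 𝟙 W.left ≫ W.hom = (x.left ≫ P.hom) ≫ f
    rw [Category.id_comp, Category.assoc]
    exact (Over.w x).symm)

/-- The map to the total space over the new base. -/
abbrev srcPt {W : Over S} (x : W ⟶ (Over.map f).obj P) : src x ⟶ P := Over.homMk x.left rfl

instance {W : Over S} (x : W ⟶ (Over.map f).obj P) : IsIso (srcTo x) := by
  haveI : IsIso ((Over.forget S).map (srcTo x)) := inferInstanceAs (IsIso (𝟙 W.left))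
  exact isIso_of_reflects_iso _ (Over.forget S)

theorem srcTo_comp {W : Over S} (x : W ⟶ (Over.map f).obj P) : srcTo x ≫ x = (Over.map f).map (srcPt x) :=
  Over.OverMorphism.ext (Category.id_comp _)

/-- The action morphism over the base. -/
def downHom : G ⊗ (Over.map f).obj P ⟶ (Over.map f).obj P :=
  Over.homMk (lift (e _ (srcTo (snd G _) ≫ fst G _)) (srcPt (snd G _)) ≫ b.act).left (by
    show _ ≫ P.hom ≫ f = _
    rw [← Category.assoc, Over.w (lift (e _ (srcTo (snd G _) ≫ fst G _)) (srcPt (snd G _)) ≫ b.act)]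
    show ((snd G ((Over.map f).obj P)).left ≫ P.hom) ≫ f = _
    rw [Category.assoc]
    exact Over.w (snd G ((Over.map f).obj P)))

theorem downHom_pt {U : Over S'} (g : (Over.map f).obj U ⟶ G) (x : U ⟶ P) :
    lift g ((Over.map f).map x) ≫ downHom b = (Over.map f).map (lift (e U g) x ≫ b.act) := by
  let q := lift g ((Over.map f).map x)
  have hq : q.left ≫ (snd G ((Over.map f).obj P)).left = x.left := by
    rw [← Over.comp_left]
    exact congrArg Over.Hom.left (lift_snd g ((Over.map f).map x))
  let q' : U ⟶ src (snd G ((Over.map f).obj P)) := Over.homMk q.left (by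
    show q.left ≫ (snd G ((Over.map f).obj P)).left ≫ P.hom = U.hom
    rw [← Category.assoc, hq]
    exact Over.w x)
  refine Over.OverMorphism.ext ?_
  show q'.left ≫ (lift (e _ (srcTo (snd G _) ≫ fst G _)) (srcPt (snd G _)) ≫ b.act).left = (lift (e U g) x ≫ b.act).left
  rw [← Over.comp_left, comp_lift_assoc, e_nat]
  have h1 : (Over.map f).map q' ≫ srcTo (snd G ((Over.map f).obj P)) = q := Over.OverMorphism.ext (Category.comp_id _)
  rw [reassoc_of% h1, show q ≫ fst G _ = g from lift_fst _ _,
    show q' ≫ srcPt (snd G ((Over.map f).obj P)) = x from Over.OverMorphism.ext hq]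

/-- An action of the base change, as an action over the base. -/
def down : AlgGrp.Action G ((Over.map f).obj P) where
  act := downHom b
  one_act := by
    have h : ∀ {W : Over S} (x : W ⟶ (Over.map f).obj P), lift (1 : W ⟶ G) x ≫ downHom b = x := fun x => by
      rw [← cancel_epi (srcTo x), comp_lift_assoc, srcTo_comp, MonObj.comp_one, downHom_pt, e_one,
        GrpShear.lift_one_act]
    rw [← cancel_epi (λ_ ((Over.map f).obj P)).inv, Iso.inv_hom_id]
    have h2 := h (𝟙 ((Over.map f).obj P))
    conv_rhs => rw [← h2]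
    rw [← Category.assoc]
    congr 1
    refine CartesianMonoidalCategory.hom_ext _ _ ?_ ?_ <;> simp [MonObj.one_eq_one]
  mul_act := by
    have h : ∀ {W : Over S} (g g' : W ⟶ G) (x : W ⟶ (Over.map f).obj P),
        lift (g * g') x ≫ downHom b = lift g (lift g' x ≫ downHom b) ≫ downHom b := fun g g' x => by
      rw [← cancel_epi (srcTo x), comp_lift_assoc, srcTo_comp, MonObj.comp_mul, downHom_pt,
        AlgGrp.Action.homEquiv_mul, GrpShear.lift_mul_act, comp_lift_assoc,
        comp_lift_assoc, srcTo_comp, downHom_pt, downHom_pt]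
    have h2 := h (fst (G ⊗ G) _ ≫ fst G G) (fst (G ⊗ G) _ ≫ snd G G) (snd (G ⊗ G) ((Over.map f).obj P))
    have e1 : μ[G] ▷ (Over.map f).obj P =
        lift ((fst (G ⊗ G) _ ≫ fst G G) * (fst (G ⊗ G) _ ≫ snd G G)) (snd (G ⊗ G) _) := by
      refine CartesianMonoidalCategory.hom_ext _ _ ?_ ?_
      · simp [Hom.mul_def, ← comp_lift, lift_fst_snd]
      · simp
    rw [e1, h2, ← Category.assoc (α_ G G _).hom]
    congr 1
    refine CartesianMonoidalCategory.hom_ext _ _ ?_ ?_
    · simp
    · rw [lift_snd, Category.assoc, whiskerLeft_snd, ← Category.assoc]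
      congr 1
      refine CartesianMonoidalCategory.hom_ext _ _ ?_ ?_ <;> simp

theorem down_pt {U : Over S'} (g : (Over.map f).obj U ⟶ G) (x : U ⟶ P) :
    lift g ((Over.map f).map x) ≫ (down b).act = (Over.map f).map (lift (e U g) x ≫ b.act) :=
  downHom_pt b g x

/-- The map to the new base. -/
def downπ (P : Over S') : (Over.map f).obj P ⟶ Over.mk f := Over.homMk P.hom rfl

theorem down_inv : (down b).act ≫ downπ P = snd G _ ≫ downπ P :=
  Over.OverMorphism.ext (Over.w (lift (e _ (srcTo (snd G _) ≫ fst G _)) (srcPt (snd G _)) ≫ b.act))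

theorem down_cart (h : NonAbH1.IsPseudoTorsorSch b) :
    IsPullback (down b).act (snd G _) (downπ P) (downπ P) := by
  haveI : IsIso (lift b.act (snd (Red.bc f G) P)) := h
  refine ⟨⟨down_inv b⟩, ⟨PullbackCone.isLimitAux' _ fun c => ?_⟩⟩
  let W' := src c.snd
  have hc : c.fst.left ≫ P.hom = c.snd.left ≫ P.hom := congrArg Over.Hom.left c.condition
  let y : W' ⟶ P := Over.homMk c.fst.left hc
  let d : W' ⟶ Red.bc f G := lift y (srcPt c.snd) ≫ inv (lift b.act (snd (Red.bc f G) P)) ≫ fst _ _
  have hd : lift d (srcPt c.snd) ≫ b.act = y := by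
    have h1 : lift d (srcPt c.snd) = lift y (srcPt c.snd) ≫ inv (lift b.act (snd (Red.bc f G) P)) := by
      refine CartesianMonoidalCategory.hom_ext _ _ (by simp [d]) ?_
      rw [lift_snd, Category.assoc, show inv (lift b.act (snd (Red.bc f G) P)) ≫ snd _ _ = snd P P by
        rw [IsIso.inv_comp_eq, lift_snd], lift_snd]
    rw [h1, Category.assoc, show inv (lift b.act (snd (Red.bc f G) P)) ≫ b.act = fst P P by
        rw [IsIso.inv_comp_eq, lift_fst], lift_fst]
  have hy : srcTo c.snd ≫ c.fst = (Over.map f).map y := Over.OverMorphism.ext (Category.id_comp _)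
  refine ⟨lift (inv (srcTo c.snd) ≫ (e W').symm d) c.snd, ?_, lift_snd _ _, fun {m} h₁ h₂ => ?_⟩
  · show _ ≫ (down b).act = c.fst
    rw [← cancel_epi (srcTo c.snd), comp_lift_assoc, IsIso.hom_inv_id_assoc, srcTo_comp, down_pt,
      Equiv.apply_symm_apply, hd, hy]
  · replace h₁ : m ≫ (down b).act = c.fst := h₁
    replace h₂ : m ≫ snd G _ = c.snd := h₂
    refine CartesianMonoidalCategory.hom_ext _ _ ?_ (by rw [lift_snd]; exact h₂)
    rw [lift_fst, IsIso.eq_inv_comp]
    refine ((e W').eq_symm_apply).2 ?_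
    have h3 : srcTo c.snd ≫ m = lift (srcTo c.snd ≫ m ≫ fst G _) ((Over.map f).map (srcPt c.snd)) := by
      refine CartesianMonoidalCategory.hom_ext _ _ ((Category.assoc _ _ _).trans (lift_fst _ _).symm) ?_
      rw [lift_snd]
      refine (Category.assoc _ _ _).trans ((congrArg (srcTo c.snd ≫ ·) h₂).trans ?_)
      exact srcTo_comp c.snd
    have h4 : (srcTo c.snd ≫ m) ≫ (down b).act = srcTo c.snd ≫ c.fst :=
      (Category.assoc _ _ _).trans (congrArg (srcTo c.snd ≫ ·) h₁)
    rw [h3, down_pt, hy] at h4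
    have h5 : lift (e W' (srcTo c.snd ≫ m ≫ fst G _)) (srcPt c.snd) ≫ b.act = y :=
      Over.OverMorphism.ext ((congrArg Over.Hom.left h4 : _))
    have h6 : lift (e W' (srcTo c.snd ≫ m ≫ fst G _)) (srcPt c.snd) ≫ lift b.act (snd _ _) =
        lift d (srcPt c.snd) ≫ lift b.act (snd _ _) := by
      rw [comp_lift, comp_lift, h5, hd, lift_snd, lift_snd]
    simpa using congrArg (· ≫ fst (Red.bc f G) P) ((cancel_mono _).1 h6)

end Down

section Up

variable {P : Over S} (a : AlgGrp.Action G P) (π : P ⟶ Over.mk f) (ha : a.act ≫ π = snd G P ≫ π)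

/-- The total space over the new base. -/
abbrev upObj (π : P ⟶ Over.mk f) : Over S' := Over.mk π.left

/-- Back over the base. -/
abbrev upIso (π : P ⟶ Over.mk f) : (Over.map f).obj (upObj π) ≅ P :=
  Over.isoMk (Iso.refl _) (by
    show 𝟙 P.left ≫ P.hom = π.left ≫ f
    rw [Category.id_comp]
    exact (Over.w π).symm)

theorem upIso_comp (π : P ⟶ Over.mk f) : (upIso π).hom ≫ π = downπ (upObj π) :=
  Over.OverMorphism.ext (Category.id_comp _)

/-- The action morphism over the new base. -/
def upHom : Red.bc f G ⊗ upObj π ⟶ upObj π :=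
  Over.homMk (lift ((e _).symm (fst (Red.bc f G) (upObj π)))
      ((Over.map f).map (snd _ _) ≫ (upIso π).hom) ≫ a.act).left (by
    show _ ≫ π.left = _
    rw [← Over.comp_left, Category.assoc, ha, lift_snd_assoc, Category.assoc, upIso_comp]
    exact Over.w (snd (Red.bc f G) (upObj π)))

theorem upHom_pt {U : Over S'} (g : U ⟶ Red.bc f G) (x : U ⟶ upObj π) :
    (Over.map f).map (lift g x ≫ upHom a π ha) ≫ (upIso π).hom =
      lift ((e U).symm g) ((Over.map f).map x ≫ (upIso π).hom) ≫ a.act := by
  refine Over.OverMorphism.ext ?_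
  show ((lift g x).left ≫ (lift ((e _).symm (fst (Red.bc f G) (upObj π)))
      ((Over.map f).map (snd _ _) ≫ (upIso π).hom) ≫ a.act).left) ≫ 𝟙 P.left = _
  rw [Category.comp_id]
  show ((Over.map f).map (lift g x)).left ≫ _ = _
  rw [← Over.comp_left, comp_lift_assoc, ← Functor.map_comp_assoc, lift_snd]
  congr 3
  rw [Equiv.eq_symm_apply, ← e_nat, Equiv.apply_symm_apply, lift_fst]

theorem map_cancel {U V : Over S'} {x y : U ⟶ V} (h : (Over.map f).map x = (Over.map f).map y) : x = y :=
  Over.OverMorphism.ext (congrArg Over.Hom.left h :)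

/-- An action over the base preserving the map to the new base, as an action of the base change. -/
def up : AlgGrp.Action (Red.bc f G) (upObj π) where
  act := upHom a π ha
  one_act := by
    have h : ∀ {U : Over S'} (x : U ⟶ upObj π), lift (1 : U ⟶ Red.bc f G) x ≫ upHom a π ha = x := fun {U} x => by
      refine map_cancel ((cancel_mono (upIso π).hom).1 ?_)
      rw [upHom_pt, ← e_one, Equiv.symm_apply_apply, GrpShear.lift_one_act]
    rw [← cancel_epi (λ_ (upObj π)).inv, Iso.inv_hom_id]
    have h2 := h (𝟙 (upObj π))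
    conv_rhs => rw [← h2]
    rw [← Category.assoc]
    congr 1
    refine CartesianMonoidalCategory.hom_ext _ _ ?_ ?_ <;> simp [MonObj.one_eq_one]
  mul_act := by
    have hm : ∀ {U : Over S'} (g g' : U ⟶ Red.bc f G), (e U).symm (g * g') = (e U).symm g * (e U).symm g' :=
      fun g g' => by rw [Equiv.symm_apply_eq, AlgGrp.Action.homEquiv_mul, Equiv.apply_symm_apply, Equiv.apply_symm_apply]
    have h : ∀ {U : Over S'} (g g' : U ⟶ Red.bc f G) (x : U ⟶ upObj π),
        lift (g * g') x ≫ upHom a π ha = lift g (lift g' x ≫ upHom a π ha) ≫ upHom a π ha := fun {U} g g' x => by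
      refine map_cancel ((cancel_mono (upIso π).hom).1 ?_)
      rw [upHom_pt, upHom_pt, upHom_pt, hm, GrpShear.lift_mul_act]
    have h2 := h (fst (Red.bc f G ⊗ Red.bc f G) _ ≫ fst _ _) (fst (Red.bc f G ⊗ Red.bc f G) _ ≫ snd _ _)
      (snd (Red.bc f G ⊗ Red.bc f G) (upObj π))
    have e1 : μ[Red.bc f G] ▷ upObj π =
        lift ((fst (Red.bc f G ⊗ Red.bc f G) _ ≫ fst _ _) * (fst (Red.bc f G ⊗ Red.bc f G) _ ≫ snd _ _))
          (snd (Red.bc f G ⊗ Red.bc f G) _) := by
      refine CartesianMonoidalCategory.hom_ext _ _ ?_ ?_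
      · simp [Hom.mul_def, ← comp_lift, lift_fst_snd]
      · simp
    rw [e1, h2, ← Category.assoc (α_ _ _ _).hom]
    congr 1
    refine CartesianMonoidalCategory.hom_ext _ _ ?_ ?_
    · simp
    · rw [lift_snd, Category.assoc, whiskerLeft_snd, ← Category.assoc]
      congr 1
      refine CartesianMonoidalCategory.hom_ext _ _ ?_ ?_ <;> simp

theorem up_pt {U : Over S'} (g : U ⟶ Red.bc f G) (x : U ⟶ upObj π) :
    (Over.map f).map (lift g x ≫ (up a π ha).act) ≫ (upIso π).hom =
      lift ((e U).symm g) ((Over.map f).map x ≫ (upIso π).hom) ≫ a.act :=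
  upHom_pt a π ha g x

theorem up_shear (hc : IsPullback a.act (snd G P) π π) : NonAbH1.IsPseudoTorsorSch (up a π ha) := by
  let U := upObj π ⊗ upObj π
  let j := (upIso π).hom
  let p₁ := (Over.map f).map (fst (upObj π) (upObj π)) ≫ j
  let p₂ := (Over.map f).map (snd (upObj π) (upObj π)) ≫ j
  have hw : p₁ ≫ π = p₂ ≫ π := by
    simp only [p₁, p₂, j, Category.assoc, upIso_comp]
    exact Over.OverMorphism.ext ((Over.w (fst (upObj π) (upObj π))).trans (Over.w (snd (upObj π) (upObj π))).symm)
  let s := hc.lift p₁ p₂ hw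
  have hs : lift ((s ≫ fst G P)) p₂ = s := by
    refine CartesianMonoidalCategory.hom_ext _ _ (lift_fst _ _) ?_
    rw [lift_snd]; exact (hc.lift_snd _ _ _).symm
  refine ⟨lift (e U (s ≫ fst G P)) (snd _ _), ?_, ?_⟩
  · let V := Red.bc f G ⊗ upObj π
    let l := lift (up a π ha).act (snd (Red.bc f G) (upObj π))
    have h1 : (Over.map f).map l ≫ s = lift ((e V).symm (fst _ _)) ((Over.map f).map (snd _ _) ≫ j) := by
      refine hc.hom_ext ?_ ?_
      · rw [Category.assoc, hc.lift_fst]
        show _ ≫ _ ≫ j = _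
        rw [← Functor.map_comp_assoc, lift_fst]
        have := up_pt a π ha (fst (Red.bc f G) (upObj π)) (snd _ _)
        rw [lift_fst_snd, Category.id_comp] at this
        exact this
      · rw [Category.assoc, hc.lift_snd, lift_snd]
        show _ ≫ _ ≫ j = _
        rw [← Functor.map_comp_assoc, lift_snd]
    show l ≫ _ = _
    refine CartesianMonoidalCategory.hom_ext _ _ ?_ (by rw [Category.assoc, lift_snd, Category.id_comp]; exact lift_snd _ _)
    rw [Category.assoc, lift_fst, Category.id_comp, e_nat, reassoc_of% h1, lift_fst, Equiv.apply_symm_apply]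
  · refine CartesianMonoidalCategory.hom_ext _ _ ?_ (by rw [Category.assoc, lift_snd, lift_snd, Category.id_comp])
    rw [Category.assoc, lift_fst, Category.id_comp]
    refine map_cancel ((cancel_mono j).1 ?_)
    rw [up_pt, Equiv.symm_apply_apply, hs]
    exact hc.lift_fst _ _ _

theorem down_up : (down (up a π ha)).act ≫ (upIso π).hom = (G ◁ (upIso π).hom) ≫ a.act := by
  let x := snd G ((Over.map f).obj (upObj π))
  have h : ∀ {W : Over S} (g : W ⟶ G) (y : W ⟶ (Over.map f).obj (upObj π)),
      lift g y ≫ (down (up a π ha)).act ≫ (upIso π).hom = lift g (y ≫ (upIso π).hom) ≫ a.act := fun g y => by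
    rw [← cancel_epi (srcTo y), comp_lift_assoc, srcTo_comp, ← Category.assoc, down_pt, up_pt,
      Equiv.symm_apply_apply, comp_lift_assoc, ← Category.assoc (srcTo y) y, srcTo_comp]
  have := h (fst G _) x
  rw [lift_fst_snd, Category.id_comp] at this
  rw [this]
  congr 1

end Up

/-- Equivariance passes down and up. -/
theorem equivariant_iff {P Q : Over S'} (b : AlgGrp.Action (Red.bc f G) P) (c : AlgGrp.Action (Red.bc f G) Q)
    (h : P ⟶ Q) :
    b.act ≫ h = (Red.bc f G ◁ h) ≫ c.act ↔
      (down b).act ≫ (Over.map f).map h = (G ◁ (Over.map f).map h) ≫ (down c).act := by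
  constructor
  · intro H
    let x := snd G ((Over.map f).obj P)
    have key : ∀ {W : Over S} (g : W ⟶ G) (y : W ⟶ (Over.map f).obj P),
        lift g y ≫ (down b).act ≫ (Over.map f).map h = lift g (y ≫ (Over.map f).map h) ≫ (down c).act :=
      fun g y => by
      rw [← cancel_epi (srcTo y), comp_lift_assoc, srcTo_comp, ← Category.assoc, down_pt, ← Functor.map_comp,
        Category.assoc, H, lift_whiskerLeft_assoc, ← down_pt, comp_lift_assoc, ← Category.assoc (srcTo y) y,
        srcTo_comp, ← Functor.map_comp]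
    have := key (fst G _) x
    rw [lift_fst_snd, Category.id_comp] at this
    rw [this]
    congr 1
  · intro H
    have key : ∀ {U : Over S'} (g : U ⟶ Red.bc f G) (x : U ⟶ P),
        lift g x ≫ b.act ≫ h = lift g (x ≫ h) ≫ c.act := fun {U} g x => by
      apply map_cancel (f := f)
      rw [← Category.assoc, Functor.map_comp, ← (e U).apply_symm_apply g, ← down_pt, ← down_pt, Category.assoc, H,
        lift_whiskerLeft_assoc, Functor.map_comp]
    have := key (fst _ _) (snd (Red.bc f G) P)
    rw [lift_fst_snd, Category.id_comp] at this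
    rw [this]
    congr 1

variable {K : Precoverage Scheme.{u}} [K.HasIsos]

/-- A torsor after base change as an object over the new base. -/
def ofTorsor (P : NonAbH1.TorsorSch (Red.bc f G) K) : Fib (AlgSt.trivAction G) K (Over.mk f) :=
  ⟨{ base := Over.mk f, P := (Over.map f).obj P.X, act := down P.act, π := downπ P.X
     cart := down_cart P.act P.isTorsor.1
     loc := P.isTorsor.2
     φ := toUnit _, eqv := toUnit_unique _ _ }, rfl⟩

theorem exists_iso_ofTorsor (ξ : Fib (AlgSt.trivAction G) K (Over.mk f)) :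
    ∃ P : NonAbH1.TorsorSch (Red.bc f G) K, Nonempty (ofTorsor P ≅ ξ) := by
  obtain ⟨⟨B, P, a, π, cart, loc, φ, eqv⟩, (hA : B = _)⟩ := ξ
  subst hA
  refine ⟨⟨upObj π, up a π cart.w, up_shear a π cart.w cart, loc⟩, ⟨fibIso ?_ ?_⟩⟩
  · exact
      { hom := ⟨𝟙 _, (upIso π).hom, down_up a π cart.w,
          IsPullback.of_horiz_isIso ⟨(upIso_comp π).trans (Category.comp_id _).symm⟩, toUnit_unique _ _⟩
        inv := ⟨𝟙 _, (upIso π).inv, (show a.act ≫ (upIso π).inv = (G ◁ (upIso π).inv) ≫ (down (up a π cart.w)).act by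
            rw [← cancel_mono (upIso π).hom, Category.assoc, Iso.inv_hom_id, Category.comp_id, Category.assoc,
              down_up, ← MonoidalCategory.whiskerLeft_comp_assoc, Iso.inv_hom_id,
              MonoidalCategory.whiskerLeft_id, Category.id_comp]),
          IsPullback.of_horiz_isIso ⟨(show (upIso π).inv ≫ downπ (upObj π) = π ≫ 𝟙 _ by
            rw [Category.comp_id, ← upIso_comp, Iso.inv_hom_id_assoc])⟩, toUnit_unique _ _⟩
        hom_inv_id := AlgSt.QuotObj.hom_ext (Category.id_comp _) (upIso π).hom_inv_id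
        inv_hom_id := AlgSt.QuotObj.hom_ext (Category.id_comp _) (upIso π).inv_hom_id }
  · show 𝟙 (Over.mk f) = eqToHom rfl ≫ eqToHom rfl
    simp

/-- A morphism in the fibre, over the new base. -/
def topUp {P Q : NonAbH1.TorsorSch (Red.bc f G) K} (φ : ofTorsor P ⟶ ofTorsor Q) : P.X ⟶ Q.X :=
  Over.homMk φ.1.top.left (by
    have h1 : φ.1.base = 𝟙 (Over.mk f) := (hom_base φ).trans (eqToHom_trans _ _)
    have h2 : φ.1.top ≫ downπ Q.X = downπ P.X ≫ φ.1.base := φ.1.cart.w
    rw [h1, Category.comp_id] at h2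
    exact congrArg Over.Hom.left h2)

theorem map_topUp {P Q : NonAbH1.TorsorSch (Red.bc f G) K} (φ : ofTorsor P ⟶ ofTorsor Q) :
    (Over.map f).map (topUp φ) = φ.1.top :=
  Over.OverMorphism.ext rfl

/-- Isomorphisms in the fibre are equivariant isomorphisms. -/
def isoEquiv (P Q : NonAbH1.TorsorSch (Red.bc f G) K) :
    (ofTorsor P ≅ ofTorsor Q) ≃ NonAbH1.EquivIso P.act Q.act where
  toFun φ := ⟨⟨topUp φ.hom, topUp φ.inv,
      Over.OverMorphism.ext (congrArg (fun t => t.1.top.left) φ.hom_inv_id),
      Over.OverMorphism.ext (congrArg (fun t => t.1.top.left) φ.inv_hom_id)⟩,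
    (equivariant_iff P.act Q.act _).2 (by rw [map_topUp]; exact φ.hom.1.eqv)⟩
  invFun e := fibIso (ξ := ofTorsor P) (ξ' := ofTorsor Q)
    { hom := ⟨𝟙 _, (Over.map f).map e.iso.hom, (equivariant_iff P.act Q.act _).1 e.comm,
        IsPullback.of_horiz_isIso ⟨(Over.OverMorphism.ext (Over.w e.iso.hom) :
          (Over.map f).map e.iso.hom ≫ downπ Q.X = downπ P.X).trans (Category.comp_id _).symm⟩, toUnit_unique _ _⟩
      inv := ⟨𝟙 _, (Over.map f).map e.iso.inv, (equivariant_iff Q.act P.act _).1 (by
          rw [← cancel_mono e.iso.hom, Category.assoc, Iso.inv_hom_id, Category.comp_id, Category.assoc, e.comm,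
            ← MonoidalCategory.whiskerLeft_comp_assoc, Iso.inv_hom_id, MonoidalCategory.whiskerLeft_id,
            Category.id_comp]),
        IsPullback.of_horiz_isIso ⟨(Over.OverMorphism.ext (Over.w e.iso.inv) :
          (Over.map f).map e.iso.inv ≫ downπ P.X = downπ Q.X).trans (Category.comp_id _).symm⟩, toUnit_unique _ _⟩
      hom_inv_id := AlgSt.QuotObj.hom_ext (Category.id_comp _)
        (((Over.map f).map_comp _ _).symm.trans (by rw [e.iso.hom_inv_id]; exact (Over.map f).map_id _))
      inv_hom_id := AlgSt.QuotObj.hom_ext (Category.id_comp _)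
        (((Over.map f).map_comp _ _).symm.trans (by rw [e.iso.inv_hom_id]; exact (Over.map f).map_id _)) }
    (by show 𝟙 (Over.mk f) = eqToHom rfl ≫ eqToHom rfl; simp)
  left_inv φ := Iso.ext (Functor.Fiber.hom_ext (AlgSt.QuotObj.hom_ext
    ((hom_base φ.hom).trans (eqToHom_trans _ _)).symm (map_topUp φ.hom)))
  right_inv e := by
    obtain ⟨i, hi⟩ := e
    congr 1

end BC

end StackCountLib
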