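import Mathlib.AlgebraicGeometry.Morphisms.FiniteType
import Mathlib.AlgebraicGeometry.Over
import Mathlib.AlgebraicGeometry.Morphisms.QuasiCompact

/-!
# Finiteness of rational points over finite fields
-/

set_option autoImplicit false
set_option linter.all false
set_option backward.isDefEq.respectTransparency false
set_option backward.isDefEq.respectTransparency.types false

universe u

open CategoryTheory AlgebraicGeometry

namespace StackCountLib

theorem finite_algHom (F A : Type u) [CommRing F] [Finite F] [CommRing A] [Algebra F A] [Algebra.FiniteType F A] :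
    Finite (A →ₐ[F] F) := by
  obtain ⟨n, φ, hφ⟩ := Algebra.FiniteType.iff_quotient_mvPolynomial''.1 ‹Algebra.FiniteType F A›
  exact Finite.of_injective (fun ψ (i : Fin n) => ψ (φ (MvPolynomial.X i))) fun ψ ψ' h =>
    (AlgHom.cancel_right hφ).1 (MvPolynomial.algHom_ext fun i => congrFun h i)

/-- A scheme of finite type over a finite field has finitely many rational points. -/
theorem finite_points {F : Type u} [Field F] [Finite F] (X : Over (Spec (CommRingCat.of F)))
    [LocallyOfFiniteType X.hom] [QuasiCompact X.hom] :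
    Finite (Over.mk (𝟙 (Spec (CommRingCat.of F))) ⟶ X) := by
  haveI : CompactSpace X.left := QuasiCompact.compactSpace_of_compactSpace X.hom
  let 𝒰 := X.left.affineCover.finiteSubcover
  let U : 𝒰.I₀ → X.left.affineOpens := fun i => ⟨(𝒰.f i).opensRange, isAffineOpen_opensRange (𝒰.f i)⟩
  let ι : ∀ i, F →+* Γ(X.left, (U i).1) := fun i =>
    ((Scheme.ΓSpecIso (CommRingCat.of F)).inv ≫ X.hom.appLE ⊤ (U i).1 (by simp)).hom
  have hfin : ∀ i, (ι i).FiniteType := fun i =>
    (X.hom.finiteType_appLE (U := ⊤) (isAffineOpen_top _) (U i).2 (by simp)).comp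
      (RingHom.FiniteType.of_surjective _ (Scheme.ΓSpecIso (CommRingCat.of F)).symm.commRingCatIsoToRingEquiv.surjective)
  haveI : ∀ i, Finite {φ : Γ(X.left, (U i).1) →+* F // φ.comp (ι i) = RingHom.id F} := fun i => by
    letI := (ι i).toAlgebra
    haveI : Algebra.FiniteType F Γ(X.left, (U i).1) := hfin i
    haveI := finite_algHom F Γ(X.left, (U i).1)
    exact Finite.of_injective (fun φ => (⟨φ.1, fun r => RingHom.congr_fun φ.2 r⟩ : Γ(X.left, (U i).1) →ₐ[F] F))
      fun φ φ' h => Subtype.ext (RingHom.ext fun a => AlgHom.congr_fun h a)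
  refine Finite.of_injective
    (β := Set (Σ i, {φ : Γ(X.left, (U i).1) →+* F // φ.comp (ι i) = RingHom.id F}))
    (fun g => {z | Spec.map (CommRingCat.ofHom z.2.1) ≫ (U z.1).2.fromSpec = g.left}) fun g g' h => ?_
  obtain ⟨i, hi⟩ : ∃ i, g.left (IsLocalRing.closedPoint F) ∈ (U i).1 := ⟨_, 𝒰.covers _⟩
  have hr : Set.range g.left ⊆ Set.range (U i).2.fromSpec := by
    rintro _ ⟨z, rfl⟩
    rw [(U i).2.range_fromSpec, Subsingleton.elim (α := Spec (CommRingCat.of F)) z (IsLocalRing.closedPoint F)]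
    exact hi
  haveI := (U i).2.isOpenImmersion_fromSpec
  obtain ⟨φ, hφ⟩ : ∃ φ : Γ(X.left, (U i).1) ⟶ CommRingCat.of F, Spec.map φ = IsOpenImmersion.lift (U i).2.fromSpec g.left hr :=
    ⟨_, Spec.map_preimage _⟩
  have hg : Spec.map φ ≫ (U i).2.fromSpec = g.left := by rw [hφ, IsOpenImmersion.lift_fac]
  have hs : Spec.map (CommRingCat.ofHom (ι i)) = (U i).2.fromSpec ≫ X.hom := by
    show Spec.map ((Scheme.ΓSpecIso (CommRingCat.of F)).inv ≫ _) = _
    rw [Spec.map_comp, ← IsAffineOpen.SpecMap_appLE_fromSpec X.hom (isAffineOpen_top _) (U i).2, IsAffineOpen.fromSpec_top,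
      Scheme.isoSpec_Spec_inv]
  have hcomp : φ.hom.comp (ι i) = RingHom.id F := by
    refine congrArg CommRingCat.Hom.hom (Spec.map_injective (a₁ := CommRingCat.ofHom (ι i) ≫ φ) (a₂ := 𝟙 _) ?_)
    rw [Spec.map_comp, hs, ← Category.assoc, hg, Spec.map_id]
    exact Over.w g
  have hm : (⟨i, φ.hom, hcomp⟩ : Σ i, {φ : Γ(X.left, (U i).1) →+* F // φ.comp (ι i) = RingHom.id F}) ∈
      {z : Σ i, {φ : Γ(X.left, (U i).1) →+* F // φ.comp (ι i) = RingHom.id F} |
        Spec.map (CommRingCat.ofHom z.2.1) ≫ (U z.1).2.fromSpec = g'.left} := (Set.ext_iff.1 h _).1 hg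
  exact Over.OverMorphism.ext (hg.symm.trans hm)

end StackCountLib
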