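import Mathlib.GroupTheory.GroupAction.Quotient
import Mathlib.GroupTheory.GroupAction.SubMulAction
import Mathlib.Algebra.BigOperators.Field
import Mathlib.Data.Rat.Defs
import Mathlib.SetTheory.Cardinal.Finite
import Mathlib.Algebra.Field.Rat

/-!
# Counting an invariant set by the orbits of its projection
-/

set_option autoImplicit false
set_option linter.all false

noncomputable section

namespace StackCountLib

variable {H D W ι : Type*} [Group H] [MulAction H D] [MulAction H W] [Fintype ι]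

theorem card_div_eq_sum [Finite H] (pr : D → W) (hpr : ∀ (g : H) (d : D), pr (g • d) = g • pr d)
    (V : SubMulAction H D) [Finite V] (w : ι → W)
    (hcov : ∀ d ∈ V, ∃ (c : ι) (g : H), g • w c = pr d)
    (huniq : ∀ (c c' : ι) (g : H), g • w c = w c' → c = c') :
    (Nat.card V : ℚ) / (Nat.card H : ℚ) =
      ∑ c, (Nat.card {d : V // pr d = w c} : ℚ) / (Nat.card (MulAction.stabilizer H (w c)) : ℚ) := by
  classical
  have hu : ∀ d : V, ∃! c, ∃ g : H, g • w c = pr d := fun d => by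
    obtain ⟨c, g, hg⟩ := hcov d d.2
    refine ⟨c, ⟨g, hg⟩, fun c' ⟨g', hg'⟩ => huniq c' c (g⁻¹ * g') ?_⟩
    rw [mul_smul, hg', ← hg, inv_smul_smul]
  have hV : Nat.card V = ∑ c, Nat.card {d : V // ∃ g : H, g • w c = pr d} := by
    rw [← Nat.card_sigma]
    exact Nat.card_congr ⟨fun d => ⟨(hu d).choose, d, (hu d).choose_spec.1⟩, fun x => x.2.1, fun d => rfl,
      fun ⟨c, d, hd⟩ => by
        obtain rfl : c = (hu d).choose := (hu d).choose_spec.2 c hd
        rfl⟩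
  rw [hV, Nat.cast_sum, Finset.sum_div]
  refine Finset.sum_congr rfl fun c _ => ?_
  have hs : (Nat.card (MulAction.stabilizer H (w c)) : ℚ) ≠ 0 := Nat.cast_ne_zero.2 Nat.card_pos.ne'
  rw [div_eq_div_iff (Nat.cast_ne_zero.2 Nat.card_pos.ne') hs, ← Nat.cast_mul, ← Nat.cast_mul, ← Nat.card_prod,
    ← Nat.card_prod]
  congr 1
  refine Nat.card_congr (Equiv.symm ⟨fun x => ⟨⟨⟨x.2 • x.1.1.1, V.smul_mem x.2 x.1.1.2⟩,
      x.2, by rw [hpr, x.1.2]⟩, ⟨(Exists.choose (p := fun g : H => g • w c = pr (x.2 • x.1.1.1))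
        ⟨x.2, by rw [hpr, x.1.2]⟩)⁻¹ * x.2, ?_⟩⟩,
    fun y => (⟨⟨(y.1.2.choose * y.2.1)⁻¹ • y.1.1.1, V.smul_mem _ y.1.1.2⟩, ?_⟩, y.1.2.choose * y.2.1),
    fun x => ?_, fun y => ?_⟩)
  · have h := Exists.choose_spec (p := fun g : H => g • w c = pr (x.2 • x.1.1.1)) ⟨x.2, by rw [hpr, x.1.2]⟩
    rw [MulAction.mem_stabilizer_iff, mul_smul, inv_smul_eq_iff, h, hpr, x.1.2]
  · show pr _ = w c
    rw [hpr, inv_smul_eq_iff, mul_smul, MulAction.mem_stabilizer_iff.1 y.2.2, y.1.2.choose_spec]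
  · obtain ⟨⟨⟨d, hd⟩, hdw⟩, g⟩ := x
    refine Prod.ext (Subtype.ext (Subtype.ext ?_)) (mul_inv_cancel_left _ _)
    simp [← mul_assoc]
  · obtain ⟨⟨⟨d, hd⟩, hdw⟩, s⟩ := y
    refine Prod.ext (Subtype.ext (Subtype.ext (smul_inv_smul _ _))) (Subtype.ext ?_)
    simp only [smul_inv_smul, inv_mul_cancel_left]

end StackCountLib
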