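import Groth.Agent.StackCountLib.Points
import Mathlib.FieldTheory.Galois.Infinite

/-!
# Galois descent of points
-/

set_option autoImplicit false
set_option linter.all false
set_option backward.isDefEq.respectTransparency false
set_option backward.isDefEq.respectTransparency.types false

noncomputable section

universe u

open CategoryTheory CategoryTheory.Limits MonoidalCategory CartesianMonoidalCategory AlgebraicGeometry
open scoped MonObj

namespace StackCountLib

variable {k : Type u} [Field k] {L L' : Type u} [Field L] [Algebra k L] [Field L'] [Algebra k L']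

/-- The morphism of points of an embedding of fields. -/
def ptMap (a : L →ₐ[k] L') : SGA7.pt (K := k) L' ⟶ SGA7.pt (K := k) L :=
  Over.homMk (Spec.map (CommRingCat.ofHom a.toRingHom)) (by
    show Spec.map _ ≫ Spec.map _ = Spec.map _
    rw [← Spec.map_comp, ← CommRingCat.ofHom_comp]
    exact congrArg (fun φ => Spec.map (CommRingCat.ofHom φ)) a.comp_algebraMap)

/-- Extension of scalars of points. -/
def res (a : L →ₐ[k] L') {Y : Over (Spec (CommRingCat.of k))} (x : SGA7.Pts L Y) : SGA7.Pts L' Y :=
  ptMap a ≫ x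

theorem epi_ptMap (a : L →ₐ[k] L') : Epi (Spec.map (CommRingCat.ofHom a.toRingHom)) := by
  haveI : Flat (Spec.map (CommRingCat.ofHom a.toRingHom)) := by
    rw [HasRingHomProperty.Spec_iff (P := @Flat), CommRingCat.hom_ofHom]
    algebraize [a.toRingHom]
    exact inferInstanceAs (Module.Flat L L')
  haveI : Surjective (Spec.map (CommRingCat.ofHom a.toRingHom)) := ⟨fun q => ⟨IsLocalRing.closedPoint L', Subsingleton.elim _ _⟩⟩
  exact Flat.epi_of_flat_of_surjective _

theorem res_injective (a : L →ₐ[k] L') (Y : Over (Spec (CommRingCat.of k))) :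
    Function.Injective (res a (Y := Y)) :=
  fun x y h => by
    haveI := epi_ptMap a
    exact Over.OverMorphism.ext ((cancel_epi (Spec.map (CommRingCat.ofHom a.toRingHom))).1 (congrArg Over.Hom.left h))

theorem res_comp (a : L →ₐ[k] L') {Y Z : Over (Spec (CommRingCat.of k))} (x : SGA7.Pts L Y) (f : Y ⟶ Z) :
    res a (x ≫ f) = res a x ≫ f := (Category.assoc _ _ _).symm

theorem res_act (a : L →ₐ[k] L') {G X : Over (Spec (CommRingCat.of k))} [GrpObj G] (aX : AlgGrp.Action G X)
    (g : SGA7.Pts L G) (x : SGA7.Pts L X) :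
    res a (lift g x ≫ aX.act) = lift (res a g) (res a x) ≫ aX.act := by
  rw [res, ← Category.assoc, comp_lift]; rfl

/-- Extension of scalars as a homomorphism. -/
def resHom (a : L →ₐ[k] L') (G : Over (Spec (CommRingCat.of k))) [GrpObj G] : SGA7.Pts L G →* SGA7.Pts L' G where
  toFun := res a
  map_one' := MonObj.comp_one _
  map_mul' := MonObj.comp_mul _

theorem smul_res (a : L →ₐ[k] L') (σ : L' ≃ₐ[k] L') (τ : L ≃ₐ[k] L) (h : ∀ l, σ (a l) = a (τ l))
    {Y : Over (Spec (CommRingCat.of k))} (x : SGA7.Pts L Y) : σ • res a x = res a (τ • x) := by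
  show SGA7.specAut σ ≫ ptMap a ≫ x = ptMap a ≫ SGA7.specAut τ ≫ x
  rw [← Category.assoc, ← Category.assoc]
  congr 1
  refine Over.OverMorphism.ext ?_
  show Spec.map _ ≫ Spec.map _ = Spec.map _ ≫ Spec.map _
  rw [← Spec.map_comp, ← Spec.map_comp, ← CommRingCat.ofHom_comp, ← CommRingCat.ofHom_comp]
  exact congrArg (fun φ => Spec.map (CommRingCat.ofHom φ)) (RingHom.ext h)

theorem smul_res_eq_self (a : L →ₐ[k] L') (σ : L' ≃ₐ[k] L') (h : ∀ l, σ (a l) = a l)
    {Y : Over (Spec (CommRingCat.of k))} (x : SGA7.Pts L Y) : σ • res a x = res a x := by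
  rw [smul_res a σ 1 h x, one_smul]

/-- A point fixed by the automorphisms fixing a subfield is defined over it. -/
theorem exists_res_eq [IsGalois k L'] (a : L →ₐ[k] L') {Y : Over (Spec (CommRingCat.of k))} (x : SGA7.Pts L' Y)
    (hx : ∀ σ : L' ≃ₐ[k] L', (∀ l, σ (a l) = a l) → σ • x = x) : ∃ y, res a y = x := by
  obtain ⟨jj, hjj⟩ := GeoPtLib.exists_residue_hom (K := L') x.left rfl
  have hfix : ∀ r, jj.hom r ∈ a.fieldRange := fun r => by
    rw [← InfiniteGalois.fixedField_fixingSubgroup a.fieldRange, IntermediateField.mem_fixedField_iff]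
    intro σ hσ
    have h' : Spec.map (CommRingCat.ofHom (σ : L' →+* L')) ≫ x.left = x.left :=
      congrArg Over.Hom.left (hx σ fun l => (IntermediateField.mem_fixingSubgroup_iff _ _).1 hσ _ ⟨l, rfl⟩)
    rw [hjj, ← Category.assoc, ← Spec.map_comp] at h'
    exact ConcreteCategory.congr_hom (Spec.map_injective ((cancel_mono _).1 h')) r
  let e := AlgEquiv.ofInjectiveField a
  let ψ : Y.left.residueField (x.left (IsLocalRing.closedPoint L')) →+* L :=
    e.symm.toRingEquiv.toRingHom.comp (jj.hom.codRestrict a.fieldRange.toSubfield hfix)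
  have hψ : CommRingCat.ofHom ψ ≫ CommRingCat.ofHom a.toRingHom = jj := by
    ext r
    exact congrArg Subtype.val (e.apply_symm_apply ⟨jj.hom r, hfix r⟩)
  have hl : Spec.map (CommRingCat.ofHom a.toRingHom) ≫ Spec.map (CommRingCat.ofHom ψ) ≫
      Y.left.fromSpecResidueField _ = x.left := by
    rw [← Category.assoc, ← Spec.map_comp, hψ]
    exact hjj.symm
  have hw : (Spec.map (CommRingCat.ofHom ψ) ≫ Y.left.fromSpecResidueField _) ≫ Y.hom =
      (SGA7.pt (K := k) L).hom := by
    haveI := epi_ptMap a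
    rw [← cancel_epi (Spec.map (CommRingCat.ofHom a.toRingHom)), ← Category.assoc, hl]
    exact (Over.w x).trans (Over.w (ptMap a)).symm
  exact ⟨Over.homMk _ hw, Over.OverMorphism.ext hl⟩

/-- A point over the base field. -/
theorem fixed_bijective [IsGalois k L'] (Y : Over (Spec (CommRingCat.of k))) :
    Function.Bijective (fun y : SGA7.Pts k Y =>
      (⟨res (Algebra.ofId k L') y, fun σ => smul_res_eq_self _ σ (fun l => σ.commutes l) y⟩ :
        {x : SGA7.Pts L' Y // ∀ σ : L' ≃ₐ[k] L', σ • x = x})) := by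
  refine ⟨fun y y' h => res_injective _ Y (congrArg Subtype.val h), fun x => ?_⟩
  obtain ⟨y, hy⟩ := exists_res_eq (Algebra.ofId k L') x.1 fun σ _ => x.2 σ
  exact ⟨y, Subtype.ext hy⟩

end StackCountLib
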