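import Groth.Agent.StackCountLib.Galois
import Groth.Agent.StackCountLib.Descent
import Groth.Prelude.Def_GalTw2
import Mathlib.GroupTheory.GroupAction.Defs

/-!
# Points of Galois twists
-/

set_option autoImplicit false
set_option linter.all false
set_option backward.isDefEq.respectTransparency false
set_option backward.isDefEq.respectTransparency.types false

noncomputable section

universe u

open CategoryTheory CategoryTheory.Limits MonoidalCategory CartesianMonoidalCategory AlgebraicGeometry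
open scoped MonObj

namespace StackCountLib

variable {k K : Type u} [Field k] [Field K] [Algebra k K]
variable {G X Y : Over (Spec (CommRingCat.of k))} [GrpObj G]

local notation "pK" => SGA7.pt (K := k) K

/-- The map on points of a morphism over the field. -/
def ptsApp (f : GalTw.bcK K Y ⟶ GalTw.bcK K X) (v : SGA7.Pts K Y) : SGA7.Pts K X :=
  lift v (𝟙 pK) ≫ down f

theorem ptsApp_id (v : SGA7.Pts K Y) : ptsApp (𝟙 (GalTw.bcK K Y)) v = v := by
  rw [ptsApp, down_id, lift_fst]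

theorem ptsApp_comp {Z : Over (Spec (CommRingCat.of k))} (f : GalTw.bcK K Y ⟶ GalTw.bcK K X)
    (f' : GalTw.bcK K X ⟶ GalTw.bcK K Z) (v : SGA7.Pts K Y) : ptsApp (f ≫ f') v = ptsApp f' (ptsApp f v) := by
  rw [ptsApp, down_comp, ← Category.assoc, comp_lift, lift_snd]; rfl

/-- The bijection on points of an isomorphism over the field. -/
def ptsEquiv (φ : GalTw.bcK K Y ≅ GalTw.bcK K X) : SGA7.Pts K Y ≃ SGA7.Pts K X where
  toFun := ptsApp φ.hom
  invFun := ptsApp φ.inv
  left_inv v := by rw [← ptsApp_comp, φ.hom_inv_id, ptsApp_id]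
  right_inv v := by rw [← ptsApp_comp, φ.inv_hom_id, ptsApp_id]

theorem ptsApp_twHom (σ : K ≃ₐ[k] K) (f : GalTw.bcK K Y ⟶ GalTw.bcK K X) (v : SGA7.Pts K Y) :
    ptsApp (GalTw.twHom σ f) (σ • v) = σ • ptsApp f v := by
  rw [ptsApp, ptsApp, down_twHom, ← Category.assoc, lift_whiskerLeft, GalTw.pts_smul_def, GalTw.pts_smul_def,
    ← Category.assoc, comp_lift, Category.comp_id, Category.id_comp]

theorem ptsEquiv_smul (φ : GalTw.bcK K Y ≅ GalTw.bcK K X) (σ : K ≃ₐ[k] K) (v : SGA7.Pts K Y) :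
    ptsEquiv φ (σ • v) = ptsApp (GalTw.cocycle φ σ).hom (σ • ptsEquiv φ v) := by
  show ptsApp φ.hom (σ • v) = ptsApp (GalTw.cocycle φ σ).hom (σ • ptsApp φ.hom v)
  rw [← ptsApp_twHom, GalTw.cocycle_apply_hom, ← ptsApp_comp, ← GalTw.twIso_hom, Iso.hom_inv_id_assoc]

/-- The rational points of a form. -/
theorem pts_equiv_fixed [IsGalois k K] (φ : GalTw.bcK K Y ≅ GalTw.bcK K X) :
    Nonempty (SGA7.Pts k Y ≃ {x : SGA7.Pts K X // ∀ σ : K ≃ₐ[k] K, ptsApp (GalTw.cocycle φ σ).hom (σ • x) = x}) := by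
  refine ⟨(Equiv.ofBijective _ (fixed_bijective (L' := K) Y)).trans (Equiv.subtypeEquiv (ptsEquiv φ) fun v =>
    forall_congr' fun σ => ?_)⟩
  rw [← ptsEquiv_smul]
  exact (ptsEquiv φ).injective.eq_iff.symm

theorem ptsApp_actK (a : AlgGrp.Action G X) (g : SGA7.Pts K G) (x : SGA7.Pts K X) :
    ptsApp (GalTw.actK K a g) x = lift g x ≫ a.act := by
  have e : down (GalTw.actK K a g) = lift (snd X pK ≫ g) (fst X pK) ≫ a.act :=
    Over.OverMorphism.ext (pullback.lift_fst _ _ _)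
  rw [ptsApp, e, ← Category.assoc, comp_lift, lift_snd_assoc, lift_fst, Category.id_comp]

/-- The rational points of a twist through an action. -/
theorem pts_actTwist [IsGalois k K] (a : AlgGrp.Action G X) (z : GpH1.OneCocycle (K ≃ₐ[k] K) (SGA7.Pts K G))
    (h : GalTw.IsActTwist K a z Y) :
    Nonempty (SGA7.Pts k Y ≃ {x : SGA7.Pts K X // ∀ σ : K ≃ₐ[k] K, lift (z σ) (σ • x) ≫ a.act = x}) := by
  obtain ⟨φ, hφ⟩ := h
  obtain ⟨e⟩ := pts_equiv_fixed φ
  exact ⟨e.trans (Equiv.subtypeEquivRight fun x => forall_congr' fun σ => by rw [hφ, ptsApp_actK])⟩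

theorem down_map {Z : Over (Spec (CommRingCat.of k))} (L : GalTw.bcK K Y ⟶ GalTw.bcK K Z) (m : Z ⟶ X) :
    down (L ≫ (GalTwLib.bcF k K).map m) = down L ≫ m := by
  refine Over.OverMorphism.ext ?_
  show (L.left ≫ ((GalTwLib.bcF k K).map m).left) ≫ pullback.fst _ _ = (L.left ≫ pullback.fst _ _) ≫ m.left
  rw [Category.assoc, Category.assoc]
  congr 1
  exact pullback.lift_fst _ _ _

theorem down_mul (f g : GalTw.bcK K Y ⟶ GalTw.bcK K G) : down (f * g) = down f * down g := by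
  have e : f * g = (lift f g ≫ Functor.LaxMonoidal.μ (GalTwLib.bcF k K) G G) ≫ (GalTwLib.bcF k K).map μ[G] := by
    rw [Category.assoc]
    show f * g = _
    exact rfl
  rw [e, down_map, Hom.mul_def]
  congr 1
  refine CartesianMonoidalCategory.hom_ext _ _ ?_ ?_
  · rw [← down_map, lift_fst, Category.assoc, Functor.Monoidal.μ_fst, lift_fst]
  · rw [← down_map, lift_snd, Category.assoc, Functor.Monoidal.μ_snd, lift_snd]

/-- Transport of morphisms over the field as a homomorphism. -/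
def downHom : (GalTw.bcK K Y ⟶ GalTw.bcK K G) →* (Y ⊗ pK ⟶ G) :=
  MonoidHom.mk' down down_mul

theorem ptsApp_innK (g h : SGA7.Pts K G) : ptsApp (GalTw.innK K g) h = g * h * g⁻¹ := by
  have hs : down (toUnit (GalTw.bcK K G) ≫ GalTw.secOfPt K g) = snd G pK ≫ g := by
    refine Over.OverMorphism.ext ?_
    show ((toUnit (GalTw.bcK K G)).left ≫ (GalTw.secOfPt K g).left) ≫ pullback.fst _ _ = pullback.snd _ _ ≫ g.left
    rw [Category.assoc, GalTw.secOfPt_left, pullback.lift_fst]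
    rfl
  have e : down (GalTw.innK K g) = (snd G pK ≫ g) * fst G pK * (snd G pK ≫ g)⁻¹ := by
    show downHom (K := K) _ = _
    rw [GalTw.innK, map_mul, map_mul, map_inv]
    show down _ * down (𝟙 _) * (down _)⁻¹ = _
    rw [hs, down_id]
  rw [ptsApp, e, MonObj.comp_mul, MonObj.comp_mul, GrpObj.comp_inv, lift_snd_assoc, lift_fst,
    Category.id_comp]

/-- The rational points of an inner twist. -/
theorem pts_innTwist [IsGalois k K] [GrpObj Y] (z : GpH1.OneCocycle (K ≃ₐ[k] K) (SGA7.Pts K G))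
    (h : GalTw.IsInnTwist K G z Y) :
    Nonempty (SGA7.Pts k Y ≃ {g : SGA7.Pts K G // ∀ σ : K ≃ₐ[k] K, g * z σ * (σ • g)⁻¹ = z σ}) := by
  obtain ⟨φ, -, hφ⟩ := h
  obtain ⟨e⟩ := pts_equiv_fixed φ
  exact ⟨e.trans (Equiv.subtypeEquivRight fun g => forall_congr' fun σ => by
    rw [hφ, ptsApp_innK, mul_inv_eq_iff_eq_mul, mul_inv_eq_iff_eq_mul]; exact eq_comm)⟩

end StackCountLib
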