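import Groth.Agent.StackCountLib.Classify
import Groth.Agent.StackCountLib.TwistPts
import Groth.Agent.StackCountLib.OrbitSum
import Mathlib.FieldTheory.KrullTopology

/-!
# Counting cocycles with points by the locally constant cohomology classes
-/

set_option autoImplicit false
set_option linter.all false
set_option backward.isDefEq.respectTransparency false
set_option backward.isDefEq.respectTransparency.types false

noncomputable section

universe u

open CategoryTheory CategoryTheory.Limits MonoidalCategory CartesianMonoidalCategory AlgebraicGeometry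
open scoped MonObj Topology

namespace StackCountLib

variable {k kb : Type u} [Field k] [Field kb] [Algebra k kb]

theorem exists_normal_field [Normal k kb] {G : Type u} [Group G] [MulDistribMulAction (kb ≃ₐ[k] kb) G] {I : Type u}
    [Finite I] (z : I → GpH1.OneCocycleLC (kb ≃ₐ[k] kb) G) :
    ∃ K : IntermediateField k kb, FiniteDimensional k K ∧ Normal k K ∧
      ∀ c, ∀ σ ∈ K.fixingSubgroup, (z c).1 σ = 1 := by
  have h : (⋂ c, {σ | (z c).1 σ = 1} : Set (kb ≃ₐ[k] kb)) ∈ 𝓝 1 :=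
    Filter.iInter_mem.2 fun c => ((z c).2 {1}).mem_nhds (GalTw.oneCocycle_one (z c).1)
  obtain ⟨K, h₁, h₂, h₃⟩ := (krullTopology_mem_nhds_one_iff_of_normal k kb _).1 h
  exact ⟨K, h₁, h₂, fun c σ hσ => Set.mem_iInter.1 (h₃ hσ) c⟩

variable [IsGalois k kb] (K : IntermediateField k kb) [Normal k K]

local notation "v" => IntermediateField.val K

local notation "rs" => AlgEquiv.restrictNormalHom (F := k) (K₁ := kb) K

variable {Y : Over (Spec (CommRingCat.of k))}

theorem smul_res_val (σ : kb ≃ₐ[k] kb) (x : SGA7.Pts K Y) : σ • res v x = res v (rs σ • x) :=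
  smul_res v σ (rs σ) (fun l => (AlgEquiv.restrictNormal_commutes σ K l).symm) x

theorem rs_surjective : Function.Surjective (rs) := AlgEquiv.restrictNormalHom_surjective kb

theorem rs_eq_one {σ : kb ≃ₐ[k] kb} (hσ : σ ∈ K.fixingSubgroup) : rs σ = 1 :=
  AlgEquiv.ext fun l => Subtype.ext ((AlgEquiv.restrictNormal_commutes σ K l).trans
    ((IntermediateField.mem_fixingSubgroup_iff _ _).1 hσ _ l.2))

theorem mem_fix_of_rs_eq_one {σ : kb ≃ₐ[k] kb} (h : rs σ = 1) : σ ∈ K.fixingSubgroup :=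
  (IntermediateField.mem_fixingSubgroup_iff _ _).2 fun l hl =>
    (AlgEquiv.restrictNormal_commutes σ K ⟨l, hl⟩).symm.trans (congrArg (fun f => ((f ⟨l, hl⟩ : K) : kb)) h)

theorem exists_res_val {x : SGA7.Pts kb Y} (hx : ∀ σ ∈ K.fixingSubgroup, σ • x = x) : ∃ y, res v y = x :=
  exists_res_eq v x fun σ h => hx σ ((IntermediateField.mem_fixingSubgroup_iff _ _).2 fun l hl => h ⟨l, hl⟩)

/-- Fixed points over the two fields. -/
theorem subtype_res_equiv {P : SGA7.Pts K Y → Prop} {Q : SGA7.Pts kb Y → Prop} (hPQ : ∀ y, Q (res v y) ↔ P y)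
    (hQ : ∀ x, Q x → ∀ σ ∈ K.fixingSubgroup, σ • x = x) : Nonempty ({y // P y} ≃ {x // Q x}) := by
  refine ⟨Equiv.ofBijective (fun y => ⟨res v y.1, (hPQ y.1).2 y.2⟩) ⟨fun y y' h =>
    Subtype.ext (res_injective v Y (congrArg Subtype.val h)), fun x => ?_⟩⟩
  obtain ⟨y, hy⟩ := exists_res_val K (hQ x.1 x.2)
  exact ⟨⟨y, (hPQ y).1 (hy ▸ x.2)⟩, Subtype.ext hy⟩

variable {G X : Over (Spec (CommRingCat.of k))} [GrpObj G] (aX : AlgGrp.Action G X)
variable [FiniteDimensional k K]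

/-- The cocycles with a compatible point. -/
def compatSet : Set (((K ≃ₐ[k] K) → SGA7.Pts K G) × SGA7.Pts K X) :=
  {d | (∀ σ τ : K ≃ₐ[k] K, d.1 (σ * τ) = d.1 σ * σ • d.1 τ) ∧ ∀ σ, lift (d.1 σ) (σ • d.2) ≫ aX.act = d.2}

theorem count_formula [Fintype (GpH1.H1lc (kb ≃ₐ[k] kb) (SGA7.Pts kb G))]
    (z : GpH1.H1lc (kb ≃ₐ[k] kb) (SGA7.Pts kb G) → GpH1.OneCocycleLC (kb ≃ₐ[k] kb) (SGA7.Pts kb G))
    (hz : ∀ c, (z c).cl = c) (hN : ∀ c, ∀ σ ∈ K.fixingSubgroup, (z c).1 σ = 1)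
    (Xz : GpH1.H1lc (kb ≃ₐ[k] kb) (SGA7.Pts kb G) → Over (Spec (CommRingCat.of k)))
    (hXz : ∀ c, GalTw.IsActTwist kb aX (z c).1 (Xz c))
    (Gin : GpH1.H1lc (kb ≃ₐ[k] kb) (SGA7.Pts kb G) → Over (Spec (CommRingCat.of k)))
    [∀ c, GrpObj (Gin c)] (hGin : ∀ c, GalTw.IsInnTwist kb G (z c).1 (Gin c))
    [Finite (SGA7.Pts K G)] [Finite (SGA7.Pts K X)] :
    (Nat.card (compatSet K aX) : ℚ) / (Nat.card (SGA7.Pts K G) : ℚ) =
      ∑ c, (Nat.card (SGA7.Pts k (Xz c)) : ℚ) / (Nat.card (SGA7.Pts k (Gin c)) : ℚ) := by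
  classical
  letI : MulAction (SGA7.Pts K G) (((K ≃ₐ[k] K) → SGA7.Pts K G) × SGA7.Pts K X) :=
    dataAction (fun σ => SGA7.specAut (K := k) σ) aX (p := SGA7.pt (K := k) K)
  letI : MulAction (SGA7.Pts K G) ((K ≃ₐ[k] K) → SGA7.Pts K G) :=
    { smul := fun g w σ => g * w σ * (σ • g)⁻¹
      one_smul := fun w => funext fun σ => by
        show 1 * w σ * (σ • (1 : SGA7.Pts K G))⁻¹ = w σ
        rw [smul_one, inv_one, mul_one, one_mul]
      mul_smul := fun g h w => funext fun σ => by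
        show g * h * w σ * (σ • (g * h))⁻¹ = g * (h * w σ * (σ • h)⁻¹) * (σ • g)⁻¹
        rw [smul_mul', mul_inv_rev]
        simp only [mul_assoc] }
  let V : SubMulAction (SGA7.Pts K G) (((K ≃ₐ[k] K) → SGA7.Pts K G) × SGA7.Pts K X) :=
    { carrier := compatSet K aX
      smul_mem' := fun g d hd => by
        refine ⟨fun σ τ => ?_, fun σ => ?_⟩
        · show g * d.1 (σ * τ) * ((σ * τ) • g)⁻¹ = g * d.1 σ * (σ • g)⁻¹ * σ • (g * d.1 τ * (τ • g)⁻¹)
          rw [hd.1, smul_mul', smul_mul', smul_inv', mul_smul]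
          group
        · show lift (g * d.1 σ * (σ • g)⁻¹) (σ • (lift g d.2 ≫ aX.act)) ≫ aX.act = lift g d.2 ≫ aX.act
          simp only [GalTw.pts_smul_def]
          rw [comp_act, act_assoc, inv_mul_cancel_right, ← act_assoc]
          exact congrArg (fun t => lift g t ≫ aX.act) (hd.2 σ) }
  haveI : Finite V := inferInstanceAs (Finite (compatSet K aX))
  choose sec hsec using rs_surjective K
  have hdep : ∀ c σ, (z c).1 σ = (z c).1 (sec (rs σ)) := fun c σ => by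
    have hm : (sec (rs σ))⁻¹ * σ ∈ K.fixingSubgroup :=
      mem_fix_of_rs_eq_one K (by rw [map_mul, map_inv, hsec, inv_mul_cancel])
    conv_lhs => rw [← mul_inv_cancel_left (sec (rs σ)) σ, (z c).1.2, hN c _ hm, smul_one, mul_one]
  have hval : ∀ c σ, ∀ τ ∈ K.fixingSubgroup, τ • (z c).1 σ = (z c).1 σ := fun c σ τ hτ => by
    have h := (z c).1.2 τ σ
    rw [hN c τ hτ, one_mul] at h
    rw [← h, hdep c (τ * σ), map_mul, rs_eq_one K hτ, one_mul, ← hdep]
  choose y hy using fun c σ => exists_res_val K (hval c σ)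
  let w : GpH1.H1lc (kb ≃ₐ[k] kb) (SGA7.Pts kb G) → (K ≃ₐ[k] K) → SGA7.Pts K G := fun c τ => y c (sec τ)
  have hw : ∀ c σ, res v (w c (rs σ)) = (z c).1 σ := fun c σ => (hy c _).trans (hdep c σ).symm
  have hwc : ∀ c σ τ, w c (σ * τ) = w c σ * σ • w c τ := fun c σ τ => by
    obtain ⟨σ, rfl⟩ := rs_surjective K σ
    obtain ⟨τ, rfl⟩ := rs_surjective K τ
    refine res_injective v G ?_
    rw [← map_mul, hw, (z c).1.2]
    show _ = resHom v G (_ * _)
    rw [map_mul]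
    show _ = res v _ * res v _
    rw [hw, ← smul_res_val, hw]
  have hres : ∀ (c : GpH1.H1lc (kb ≃ₐ[k] kb) (SGA7.Pts kb G)) (g : SGA7.Pts K G) σ,
      res v (g * w c (rs σ) * (rs σ • g)⁻¹) = res v g * (z c).1 σ * (σ • res v g)⁻¹ := fun c g σ => by
    show resHom v G _ = _
    rw [map_mul, map_mul, map_inv]
    show res v g * res v _ * (res v _)⁻¹ = _
    rw [hw, smul_res_val]
  rw [show Nat.card (compatSet K aX) = Nat.card V from rfl,
    card_div_eq_sum Prod.fst (fun g d => rfl) V w ?_ ?_]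
  · refine Finset.sum_congr rfl fun c _ => ?_
    obtain ⟨eX⟩ := pts_actTwist aX (z c).1 (hXz c)
    obtain ⟨eG⟩ := pts_innTwist (z c).1 (hGin c)
    obtain ⟨eX'⟩ := subtype_res_equiv K (Y := X) (P := fun x => ∀ σ, lift (w c σ) (σ • x) ≫ aX.act = x)
      (Q := fun x => ∀ σ : kb ≃ₐ[k] kb, lift ((z c).1 σ) (σ • x) ≫ aX.act = x) (fun x => by
        refine ⟨fun h σ => ?_, fun h σ => ?_⟩
        · obtain ⟨σ, rfl⟩ := rs_surjective K σ
          refine res_injective v X ?_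
          rw [res_act, hw, ← smul_res_val]
          exact h σ
        · rw [← hw, smul_res_val, ← res_act, h])
      (fun x h σ hσ => by
        have := h σ
        rwa [hN c σ hσ, QuotStLib.act_one] at this)
    obtain ⟨eG'⟩ := subtype_res_equiv K (Y := G) (P := fun g => ∀ σ, g * w c σ * (σ • g)⁻¹ = w c σ)
      (Q := fun g => ∀ σ : kb ≃ₐ[k] kb, g * (z c).1 σ * (σ • g)⁻¹ = (z c).1 σ) (fun g => by
        refine ⟨fun h σ => ?_, fun h σ => ?_⟩
        · obtain ⟨σ, rfl⟩ := rs_surjective K σ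
          refine res_injective v G ?_
          rw [hres, h σ, hw]
        · rw [← hres, h, hw])
      (fun g h σ hσ => by
        have := h σ
        rw [hN c σ hσ, mul_one, mul_inv_eq_one] at this
        exact this.symm)
    rw [Nat.card_congr (eX.trans eX'.symm), Nat.card_congr (eG.trans eG'.symm)]
    congr 2
    · exact Nat.card_congr ⟨fun d => ⟨d.1.1.2, fun σ => (congrArg (fun t => lift t (σ • d.1.1.2) ≫ aX.act) (congrFun d.2 σ)).symm.trans (d.1.2.2 σ)⟩,
        fun x => ⟨⟨(w c, x.1), hwc c, x.2⟩, rfl⟩,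
        fun d => Subtype.ext (Subtype.ext (Prod.ext d.2.symm rfl)), fun x => rfl⟩
    · exact Nat.card_congr (Equiv.subtypeEquivRight fun g => ⟨fun h σ => congrFun h σ, funext⟩)
  · intro d hd
    obtain ⟨hd, -⟩ := hd
    let zd : GpH1.OneCocycle (kb ≃ₐ[k] kb) (SGA7.Pts kb G) := ⟨fun σ => res v (d.1 (rs σ)), fun σ τ => by
      show res v (d.1 (rs (σ * τ))) = res v (d.1 (rs σ)) * σ • res v (d.1 (rs τ))
      rw [map_mul, hd, smul_res_val]
      exact map_mul (resHom v G) _ _⟩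
    have hlc : IsLocallyConstant (zd : (kb ≃ₐ[k] kb) → SGA7.Pts kb G) := by
      refine (IsLocallyConstant.iff_exists_open _).2 fun σ =>
        ⟨(fun τ => σ⁻¹ * τ) ⁻¹' (K.fixingSubgroup : Set (kb ≃ₐ[k] kb)),
          (IntermediateField.fixingSubgroup_isOpen K).preimage (continuous_const_mul σ⁻¹), by simp, fun τ hτ => ?_⟩
      show res v (d.1 (rs τ)) = res v (d.1 (rs σ))
      have : rs (σ⁻¹ * τ) = 1 := rs_eq_one K hτ
      rw [map_mul, map_inv, inv_mul_eq_one] at this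
      rw [this]
    obtain ⟨g, hg⟩ := (GpH1.OneCocycleLC.cl_eq_cl_iff ⟨zd, hlc⟩ (z (GpH1.OneCocycleLC.cl ⟨zd, hlc⟩))).1 (hz _).symm
    obtain ⟨h, rfl⟩ := exists_res_val K (x := g) fun σ hσ => by
      have h' : zd σ = _ := hg σ
      rw [hN _ σ hσ, mul_one] at h'
      have h'' : zd σ = 1 := by
        show res v (d.1 (rs σ)) = 1
        have e : d.1 1 = 1 := GalTw.oneCocycle_one ⟨d.1, hd⟩
        rw [rs_eq_one K hσ, e]
        exact map_one (resHom v G)
      rw [h''] at h'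
      exact (inv_mul_eq_one.1 h'.symm).symm
    refine ⟨GpH1.OneCocycleLC.cl ⟨zd, hlc⟩, h⁻¹, funext fun σ => ?_⟩
    obtain ⟨σ, rfl⟩ := rs_surjective K σ
    refine res_injective v G ?_
    show res v (h⁻¹ * _ * (rs σ • h⁻¹)⁻¹) = res v (d.1 (rs σ))
    rw [hres, show res v h⁻¹ = (res v h)⁻¹ from map_inv (resHom v G) h, smul_inv', inv_inv]
    exact (hg σ).symm
  · intro c c' g hg
    rw [← hz c, ← hz c']
    refine ((GpH1.OneCocycleLC.cl_eq_cl_iff (z c') (z c)).2 ⟨(res v g)⁻¹, fun σ => ?_⟩).symm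
    rw [smul_inv', inv_inv, ← hw c', ← hres]
    exact congrArg (res v) (congrFun hg (rs σ)).symm

/-- A torsor has a point over the splitting field. -/
theorem nonempty_pts_of_lc (z : GpH1.H1lc (kb ≃ₐ[k] kb) (SGA7.Pts kb G) → GpH1.OneCocycleLC (kb ≃ₐ[k] kb) (SGA7.Pts kb G))
    (hz : ∀ c, (z c).cl = c) (hN : ∀ c, ∀ σ ∈ K.fixingSubgroup, (z c).1 σ = 1) [IsAlgClosed kb]
    {P : Over (Spec (CommRingCat.of k))} [LocallyOfFiniteType P.hom] [Nonempty ↥P.left]
    (a : AlgGrp.Action G P) [IsIso (lift a.act (snd G P))] : Nonempty (SGA7.Pts K P) := by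
  haveI : JacobsonSpace ↥P.left := LocallyOfFiniteType.jacobsonSpace P.hom
  obtain ⟨x, -, hx⟩ := nonempty_inter_closedPoints (Z := (Set.univ : Set P.left))
    ⟨Classical.arbitrary _, trivial⟩ isOpen_univ.isLocallyClosed
  letI := (WeilLib.resMap P.hom x).hom.toAlgebra
  haveI := GeoPtLib.finite_residueField P.hom hx
  let a₀ : P.left.residueField x →ₐ[k] kb := IsAlgClosed.lift
  let q₀ : SGA7.Pts (P.left.residueField x) P := Over.homMk (P.left.fromSpecResidueField x) (WeilLib.SpecMap_resMap P.hom x).symm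
  let q := res a₀ q₀
  have hq : ∀ τ ∈ a₀.fieldRange.fixingSubgroup, τ • q = q := fun τ hτ =>
    smul_res_eq_self a₀ τ (fun l => (IntermediateField.mem_fixingSubgroup_iff _ _).1 hτ _ ⟨l, rfl⟩) q₀
  haveI : FiniteDimensional k a₀.fieldRange :=
    Module.Finite.equiv (AlgEquiv.ofInjectiveField a₀).toLinearEquiv
  let δ : GpH1.OneCocycle (kb ≃ₐ[k] kb) (SGA7.Pts kb G) := ⟨fun σ => dlt a q (σ • q), fun σ τ => by
    show dlt a q ((σ * τ) • q) = dlt a q (σ • q) * σ • dlt a q (τ • q)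
    simp only [mul_smul]
    simp only [GalTw.pts_smul_def]
    rw [comp_dlt, dlt_mul]⟩
  have hlc : IsLocallyConstant (δ : (kb ≃ₐ[k] kb) → SGA7.Pts kb G) :=
    (IsLocallyConstant.iff_exists_open _).2 fun σ =>
      ⟨(fun τ => σ⁻¹ * τ) ⁻¹' (a₀.fieldRange.fixingSubgroup : Set (kb ≃ₐ[k] kb)),
        (IntermediateField.fixingSubgroup_isOpen _).preimage (continuous_const_mul σ⁻¹), by simp, fun τ hτ => by
          show dlt a q (τ • q) = dlt a q (σ • q)
          conv_lhs => rw [← mul_inv_cancel_left σ τ, mul_smul, hq _ hτ]⟩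
  obtain ⟨g, hg⟩ := (GpH1.OneCocycleLC.cl_eq_cl_iff (z (GpH1.OneCocycleLC.cl ⟨δ, hlc⟩)) ⟨δ, hlc⟩).1 (hz _)
  let q' : SGA7.Pts kb P := lift g⁻¹ q ≫ a.act
  obtain ⟨y, -⟩ := exists_res_val K (x := q') fun σ hσ => by
    have h' : lift ((z (GpH1.OneCocycleLC.cl ⟨δ, hlc⟩)).1 σ) (σ • q') ≫ a.act = q' := by
      rw [hg σ]
      show lift (g⁻¹ * dlt a q (σ • q) * σ • g) (σ • (lift g⁻¹ q ≫ a.act)) ≫ a.act = lift g⁻¹ q ≫ a.act
      simp only [GalTw.pts_smul_def]
      rw [comp_act, act_assoc, GrpObj.comp_inv, mul_inv_cancel_right, ← act_assoc, dlt_spec]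
    rwa [hN _ σ hσ, QuotStLib.act_one] at h'
  exact ⟨y⟩

end StackCountLib
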