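import Groth.Agent.QuotStLib.Coarse

/-!
# Étale torsors as flat torsors
-/

set_option autoImplicit false
set_option linter.all false
set_option backward.isDefEq.respectTransparency false
set_option backward.isDefEq.respectTransparency.types false

noncomputable section

universe u

open CategoryTheory AlgebraicGeometry

namespace StackCountLib

theorem etalePrecoverage_le_fppf : Scheme.etalePrecoverage.{u} ≤ Scheme.fppfPrecoverage.{u} := by
  refine Scheme.precoverage_mono (fun X Y f hf => ?_)
  haveI : Etale f := hf
  exact ⟨inferInstance, inferInstance⟩

variable {S : Scheme.{u}} {G X : Over S} [GrpObj G] {aX : AlgGrp.Action G X}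

/-- An étale torsor as a flat torsor. -/
abbrev toFppf (A : AlgSt.QuotObj Scheme.etalePrecoverage G aX) : AlgSt.QuotObj Scheme.fppfPrecoverage G aX :=
  { base := A.base, P := A.P, act := A.act, π := A.π, cart := A.cart, φ := A.φ, eqv := A.eqv
    loc := by
      obtain ⟨R, hR, h⟩ := A.loc
      exact ⟨R, etalePrecoverage_le_fppf _ hR, h⟩ }

end StackCountLib
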