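import Groth.Agent.QuotStLib.MapRep
import Mathlib.GroupTheory.GroupAction.Quotient

/-!
# Points of a quotient stack whose torsors are trivial
-/

set_option autoImplicit false
set_option linter.all false
set_option backward.isDefEq.respectTransparency false
set_option backward.isDefEq.respectTransparency.types false

noncomputable section

universe u

open CategoryTheory CategoryTheory.Limits MonoidalCategory CartesianMonoidalCategory AlgebraicGeometry
open scoped MonObj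

namespace StackCountLib

variable {S : Scheme.{u}} {G X : Over S} [GrpObj G] (aX : AlgGrp.Action G X) (T : Over S)

/-- The action of the points of the group on the points of the scheme. -/
@[reducible] def ptAction : MulAction (T ⟶ G) (T ⟶ X) where
  smul g x := lift g x ≫ aX.act
  one_smul x := QuotStLib.act_one aX x
  mul_smul g h x := QuotStLib.act_mul aX g h x

variable {T} (K : Precoverage Scheme.{u}) [K.HasIsos]

/-- The fibre of the quotient stack. -/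
abbrev Fib (T : Over S) := (AlgSt.QuotSt K G aX).p.Fiber T

/-- The trivial torsor in the fibre. -/
def tf (x : T ⟶ X) : Fib aX K T := ⟨QuotStLib.triv K aX x, rfl⟩

variable {aX} {K}

/-- The group element of an endomorphism of a trivial torsor. -/
def coord {x x' : T ⟶ X} (h : QuotStLib.triv K aX x ⟶ QuotStLib.triv K aX x') : T ⟶ G :=
  lift (1 : T ⟶ G) (𝟙 T) ≫ h.top ≫ fst G T

theorem hom_base {ξ ξ' : Fib aX K T} (φ : ξ ⟶ ξ') :
    φ.1.base = eqToHom ξ.2 ≫ eqToHom ξ'.2.symm := by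
  have : φ.1.base = eqToHom _ ≫ 𝟙 T ≫ eqToHom _ :=
    @IsHomLift.fac' _ _ _ _ (AlgSt.QuotSt K G aX).p _ _ _ _ (𝟙 T) φ.1 φ.2
  simpa using this

theorem coord_spec {x x' : T ⟶ X} (φ : tf aX K x ⟶ tf aX K x') :
    lift (coord φ.1) x' ≫ aX.act = x ∧
      φ.1.top = lift (fst G T * (snd G T ≫ coord φ.1)) (snd G T) := by
  obtain ⟨g, hg, ht⟩ := (QuotStLib.hom_iff (K := K) (aX := aX) (𝟙 T) x x').1 φ.1 (by
    exact (hom_base φ).trans (Category.id_comp _))
  rw [Category.comp_id] at ht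
  have hc : coord φ.1 = g := by
    show lift (1 : T ⟶ G) (𝟙 T) ≫ φ.1.top ≫ fst G T = g
    rw [ht, lift_fst, MonObj.comp_mul, lift_fst, lift_snd_assoc, Category.id_comp, one_mul]
  rw [hc]
  exact ⟨by rwa [Category.id_comp] at hg, ht⟩

/-- An isomorphism of objects with identity base gives an isomorphism in the fibre. -/
def fibIso {ξ ξ' : Fib aX K T} (κ : ξ.1 ≅ ξ'.1) (hκ : κ.hom.base = eqToHom ξ.2 ≫ eqToHom ξ'.2.symm) :
    ξ ≅ ξ' :=
  haveI h1 : (AlgSt.QuotSt K G aX).p.IsHomLift (𝟙 T) κ.hom :=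
    IsHomLift.of_fac' _ _ _ ξ.2 ξ'.2 (by show κ.hom.base = _; rw [hκ, Category.id_comp])
  haveI h2 : (AlgSt.QuotSt K G aX).p.IsHomLift (𝟙 T) κ.inv := IsHomLift.lift_id_inv _ _ κ
  { hom := ⟨κ.hom, h1⟩, inv := ⟨κ.inv, h2⟩
    hom_inv_id := Functor.Fiber.hom_ext κ.hom_inv_id
    inv_hom_id := Functor.Fiber.hom_ext κ.inv_hom_id }

theorem exists_iso_of_coord {x x' : T ⟶ X} (g : T ⟶ G) (hg : lift g x' ≫ aX.act = x) :
    ∃ φ : tf aX K x ≅ tf aX K x', coord φ.hom.1 = g := by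
  obtain ⟨h, hb, ht⟩ := (QuotStLib.hom_iff (K := K) (aX := aX) (𝟙 T) x x').2 g (by rw [Category.id_comp]; exact hg)
  obtain ⟨κ, hκ, hκ'⟩ := QuotStLib.exists_iso h (𝟙 _) (rfl : (QuotStLib.triv K aX x).base = _)
    (by rw [hb]; exact (Category.comp_id _).symm)
  rw [Category.comp_id] at hκ'
  refine ⟨fibIso (ξ := tf aX K x) (ξ' := tf aX K x') κ (by rw [hκ]; exact (Category.id_comp _).symm), ?_⟩
  show lift (1 : T ⟶ G) (𝟙 T) ≫ κ.hom.top ≫ fst G T = g
  rw [hκ', ht, lift_fst, MonObj.comp_mul, lift_fst, lift_snd_assoc, Category.id_comp, one_mul]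

theorem exists_iso_tf (ξ : Fib aX K T) (s : T ⟶ ξ.1.P) (hs : s ≫ ξ.1.π = eqToHom ξ.2.symm) :
    Nonempty (ξ ≅ tf aX K (s ≫ ξ.1.φ)) := by
  let h := QuotStLib.homOfSection (K := K) ξ.1 s (s ≫ ξ.1.φ) rfl (eqToHom ξ.2.symm) hs
  obtain ⟨κ, hκ, -⟩ := QuotStLib.exists_iso h (𝟙 ξ.1) (B := QuotStLib.triv K aX (s ≫ ξ.1.φ)) ξ.2.symm
    (Category.comp_id _).symm
  exact ⟨(fibIso (ξ := tf aX K (s ≫ ξ.1.φ)) (ξ' := ξ) κ (by rw [hκ]; exact (Category.id_comp _).symm)).symm⟩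

theorem nonempty_iso_iff (x x' : T ⟶ X) :
    Nonempty (tf aX K x ≅ tf aX K x') ↔ ∃ g : T ⟶ G, lift g x' ≫ aX.act = x :=
  ⟨fun ⟨φ⟩ => ⟨_, (coord_spec φ.hom).1⟩, fun ⟨g, hg⟩ => ⟨(exists_iso_of_coord g hg).choose⟩⟩

/-- The automorphisms of a trivial torsor are the stabilizer. -/
def autEquiv (x : T ⟶ X) : Aut (tf aX K x) ≃ {g : T ⟶ G // lift g x ≫ aX.act = x} :=
  Equiv.ofBijective (fun φ => ⟨coord φ.hom.1, (coord_spec φ.hom).1⟩) ⟨fun φ ψ h => by
    have h' : coord φ.hom.1 = coord ψ.hom.1 := congrArg Subtype.val h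
    refine Iso.ext (Functor.Fiber.hom_ext (AlgSt.QuotObj.hom_ext ?_ ?_))
    · exact (hom_base φ.hom).trans (hom_base ψ.hom).symm
    · exact (coord_spec φ.hom).2.trans ((congrArg (fun g => lift (fst G T * (snd G T ≫ g)) (snd G T)) h').trans (coord_spec ψ.hom).2.symm)
    , fun ⟨g, hg⟩ => ⟨(exists_iso_of_coord g hg).choose, Subtype.ext (exists_iso_of_coord g hg).choose_spec⟩⟩

/-- The mass formula. -/
theorem mass [Finite (T ⟶ G)] [Finite (T ⟶ X)]
    (hsec : ∀ ξ : Fib aX K T, ∃ s : T ⟶ ξ.1.P, s ≫ ξ.1.π = eqToHom ξ.2.symm) :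
    Finite (Quotient (isIsomorphicSetoid (Fib aX K T))) ∧ (∀ ξ : Fib aX K T, Finite (Aut ξ)) ∧
      ∑ᶠ c : Quotient (isIsomorphicSetoid (Fib aX K T)), ((Nat.card (Aut c.out) : ℚ))⁻¹ =
        (Nat.card (T ⟶ X) : ℚ) / (Nat.card (T ⟶ G) : ℚ) := by
  classical
  letI := ptAction aX T
  choose s hs using hsec
  have hiso : ∀ ξ : Fib aX K T, Nonempty (ξ ≅ tf aX K (s ξ ≫ ξ.1.φ)) := fun ξ => exists_iso_tf ξ (s ξ) (hs ξ)
  let Ω := MulAction.orbitRel.Quotient (T ⟶ G) (T ⟶ X)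
  have hrel : ∀ x x' : T ⟶ X, MulAction.orbitRel (T ⟶ G) (T ⟶ X) x x' ↔ Nonempty (tf aX K x ≅ tf aX K x') :=
    fun x x' => by rw [nonempty_iso_iff]; exact Iff.rfl
  let e : Quotient (isIsomorphicSetoid (Fib aX K T)) ≃ Ω :=
    { toFun := Quotient.lift (fun ξ => Quotient.mk _ (s ξ ≫ ξ.1.φ)) fun ξ ξ' ⟨i⟩ => Quotient.sound
        ((hrel _ _).2 ⟨(hiso ξ).some.symm ≪≫ i ≪≫ (hiso ξ').some⟩)
      invFun := Quotient.lift (fun x => Quotient.mk _ (tf aX K x)) fun x x' h => Quotient.sound ((hrel x x').1 h)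
      left_inv := Quotient.ind fun ξ => Quotient.sound ⟨(hiso ξ).some.symm⟩
      right_inv := Quotient.ind fun x => Quotient.sound ((hrel _ _).2 ⟨(hiso (tf aX K x)).some.symm⟩) }
  have hfin : ∀ ξ : Fib aX K T, Finite (Aut ξ) := fun ξ =>
    Finite.of_equiv _ ((hiso ξ).some.conjAut.toEquiv.trans (autEquiv _)).symm
  haveI : Finite Ω := Quotient.finite _
  haveI : Finite (Quotient (isIsomorphicSetoid (Fib aX K T))) := Finite.of_equiv _ e.symm
  refine ⟨inferInstance, hfin, ?_⟩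
  letI : Fintype Ω := Fintype.ofFinite _
  letI : Fintype (Quotient (isIsomorphicSetoid (Fib aX K T))) := Fintype.ofFinite _
  rw [finsum_eq_sum_of_fintype]
  have hG : (Nat.card (T ⟶ G) : ℚ) ≠ 0 := Nat.cast_ne_zero.2 (Nat.card_pos).ne'
  have hcard : ∀ c : Quotient (isIsomorphicSetoid (Fib aX K T)),
      ((Nat.card (Aut c.out) : ℚ))⁻¹ = (Nat.card (e c).orbit : ℚ) / (Nat.card (T ⟶ G) : ℚ) := fun c => by
    let x := s c.out ≫ c.out.1.φ
    have hc : e c = Quotient.mk _ x := (congrArg e (Quotient.out_eq c)).symm.trans rfl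
    have h1 : Nat.card (Aut c.out) = Nat.card (MulAction.stabilizer (T ⟶ G) x) :=
      Nat.card_congr ((hiso c.out).some.conjAut.toEquiv.trans (autEquiv x))
    have h2 : Nat.card (e c).orbit = Nat.card (MulAction.orbit (T ⟶ G) x) := by
      rw [hc]; rfl
    have h3 : Nat.card (MulAction.orbit (T ⟶ G) x) * Nat.card (MulAction.stabilizer (T ⟶ G) x) = Nat.card (T ⟶ G) := by
      rw [← Nat.card_prod]
      exact Nat.card_congr (MulAction.orbitProdStabilizerEquivGroup (T ⟶ G) x)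
    rw [h1, h2, eq_div_iff hG, ← h3, Nat.cast_mul]
    have : (Nat.card (MulAction.stabilizer (T ⟶ G) x) : ℚ) ≠ 0 := Nat.cast_ne_zero.2 (Nat.card_pos).ne'
    field_simp
  rw [Finset.sum_congr rfl fun c _ => hcard c, ← Finset.sum_div, e.sum_comp (fun ω => (Nat.card ω.orbit : ℚ)),
    ← Nat.cast_sum, ← Nat.card_sigma]
  congr 2
  exact Nat.card_congr (MulAction.selfEquivSigmaOrbits' (T ⟶ G) (T ⟶ X)).symm

end StackCountLib
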