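import Groth.Agent.StackCountLib.Model
import Groth.Agent.StackCountLib.BCFib
import Groth.Agent.StackCountLib.Orbit

/-!
# Objects of the quotient stack with a model over a finite field
-/

set_option autoImplicit false
set_option linter.all false
set_option backward.isDefEq.respectTransparency false
set_option backward.isDefEq.respectTransparency.types false

noncomputable section

universe u

open CategoryTheory CategoryTheory.Limits MonoidalCategory CartesianMonoidalCategory AlgebraicGeometry
open scoped MonObj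

namespace StackCountLib

/-- A point over an intermediate field, over the ground field. -/
def mapPtIso (k L Ω : Type u) [Field k] [Field L] [Field Ω] [Algebra k L] [Algebra k Ω] [Algebra L Ω]
    [IsScalarTower k L Ω] :
    SGA7.pt (K := k) Ω ≅ (Over.map (Spec.map (CommRingCat.ofHom (algebraMap k L)))).obj (SGA7.pt (K := L) Ω) :=
  Over.isoMk (Iso.refl _) (by
    show 𝟙 _ ≫ Spec.map _ ≫ Spec.map _ = Spec.map _
    rw [Category.id_comp, ← Spec.map_comp, ← CommRingCat.ofHom_comp, ← IsScalarTower.algebraMap_eq])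

theorem mapPtIso_specAut (k L Ω : Type u) [Field k] [Field L] [Field Ω] [Algebra k L] [Algebra k Ω] [Algebra L Ω]
    [IsScalarTower k L Ω] (σ : Ω ≃ₐ[L] Ω) (s : SGA7.pt (K := k) Ω ⟶ SGA7.pt (K := k) Ω)
    (hs : s.left = (SGA7.specAut (K := L) σ).left) :
    (Over.map (Spec.map (CommRingCat.ofHom (algebraMap k L)))).map (SGA7.specAut (K := L) σ) ≫ (mapPtIso k L Ω).inv =
      (mapPtIso k L Ω).inv ≫ s := by
  refine Over.OverMorphism.ext ?_
  rw [Over.comp_left, Over.comp_left, Over.map_map_left, hs]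
  show _ ≫ 𝟙 _ = 𝟙 _ ≫ _
  rw [Category.comp_id, Category.id_comp]

theorem mapPtIso_π (k L Ω : Type u) [Field k] [Field L] [Field Ω] [Algebra k L] [Algebra k Ω] [Algebra L Ω]
    [IsScalarTower k L Ω] {Y : Over (Spec (CommRingCat.of L))} (q : SGA7.pt (K := L) Ω ⟶ Y) :
    ((mapPtIso k L Ω).hom ≫ (Over.map (Spec.map (CommRingCat.ofHom (algebraMap k L)))).map q ≫
        StackCountLib.BC.downπ Y).left = Spec.map (CommRingCat.ofHom (algebraMap L Ω)) := by
  show 𝟙 _ ≫ q.left ≫ Y.hom = _
  rw [Category.id_comp]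
  exact Over.w q

theorem hasModel_iff (k : Type u) [Field k] [Finite k] (Ω : Type u) [Field Ω] [Algebra k Ω] [IsAlgClosure k Ω]
    (G : Over (Spec (CommRingCat.of k))) [GrpObj G] [Smooth G.hom] [IsAffineHom G.hom]
    (X : Over (Spec (CommRingCat.of k))) [LocallyOfFiniteType X.hom] [QuasiCompact X.hom]
    [IsReduced X.left] (aX : AlgGrp.Action G X)
    (k' : IntermediateField k Ω) [FiniteDimensional k k']
    (ιk : (Over.mk (Spec.map (CommRingCat.ofHom (algebraMap k Ω))) : Over (Spec (CommRingCat.of k))) ⟶ (Over.mk (Spec.map (CommRingCat.ofHom (algebraMap k k'))) : Over (Spec (CommRingCat.of k))))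
    (hι : ιk.left = Spec.map (CommRingCat.ofHom (algebraMap k' Ω)))
    (A : (AlgSt.QuotObj.forget Scheme.etalePrecoverage G aX).Fiber (Over.mk (Spec.map (CommRingCat.ofHom (algebraMap k Ω))) : Over (Spec (CommRingCat.of k)))) (t : (Over.mk (Spec.map (CommRingCat.ofHom (algebraMap k Ω))) : Over (Spec (CommRingCat.of k))) ⟶ A.1.P) (ht : t ≫ A.1.π = eqToHom A.2.symm) :
    (∃ (B : AlgSt.QuotObj Scheme.etalePrecoverage G aX) (hB : B.base = (Over.mk (Spec.map (CommRingCat.ofHom (algebraMap k k'))) : Over (Spec (CommRingCat.of k))))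
        (h : A.1 ⟶ B), h.base = eqToHom A.2 ≫ ιk ≫ eqToHom hB.symm) ↔
    (∀ (σ : Ω ≃ₐ[k'] Ω) (s : (Over.mk (Spec.map (CommRingCat.ofHom (algebraMap k Ω))) : Over (Spec (CommRingCat.of k))) ⟶ (Over.mk (Spec.map (CommRingCat.ofHom (algebraMap k Ω))) : Over (Spec (CommRingCat.of k)))),
        s.left = Spec.map (CommRingCat.ofHom σ.toRingEquiv.toRingHom) →
        ∃ g : (Over.mk (Spec.map (CommRingCat.ofHom (algebraMap k Ω))) : Over (Spec (CommRingCat.of k))) ⟶ G,
          CartesianMonoidalCategory.lift g (t ≫ A.1.φ) ≫ aX.act = s ≫ t ≫ A.1.φ) := by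
  let f : Spec (CommRingCat.of k') ⟶ Spec (CommRingCat.of k) := Spec.map (CommRingCat.ofHom (algebraMap k k'))
  let x := t ≫ A.1.φ
  constructor
  · rintro ⟨B, hB, h, hb⟩ σ s hs
    have hsιk : s ≫ ιk = ιk := by
      refine Over.OverMorphism.ext ?_
      rw [Over.comp_left, hι, hs, ← Spec.map_comp, ← CommRingCat.ofHom_comp]
      exact congrArg (fun φ => Spec.map (CommRingCat.ofHom φ)) (RingHom.ext fun c => σ.commutes c)
    have h1 : (t ≫ h.top) ≫ B.π = ιk ≫ eqToHom hB.symm := by
      rw [Category.assoc, h.cart.w, reassoc_of% ht, hb, eqToHom_trans_assoc, eqToHom_refl, Category.id_comp]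
    have hw : (s ≫ t ≫ h.top) ≫ B.π = (t ≫ h.top) ≫ B.π := by
      rw [Category.assoc, h1, reassoc_of% hsιk]
    have e : lift (B.cart.lift (s ≫ t ≫ h.top) (t ≫ h.top) hw ≫ fst G B.P) (t ≫ h.top) =
        B.cart.lift (s ≫ t ≫ h.top) (t ≫ h.top) hw := by
      refine CartesianMonoidalCategory.hom_ext _ _ (lift_fst _ _) ?_
      rw [lift_snd, B.cart.lift_snd]
    refine ⟨B.cart.lift (s ≫ t ≫ h.top) (t ≫ h.top) hw ≫ fst G B.P, ?_⟩
    rw [← h.wφ, ← Category.assoc t h.top B.φ, ← lift_whiskerLeft_assoc, ← B.eqv, reassoc_of% e, B.cart.lift_fst_assoc,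
      Category.assoc, Category.assoc]
  · intro H
    haveI : Finite k' := Module.finite_of_finite k
    haveI : IsAlgClosed (Ω) := IsAlgClosure.isAlgClosed k
    haveI : Algebra.IsAlgebraic k (Ω) := IsAlgClosure.isAlgebraic
    haveI : IsAlgClosure k' (Ω) := ⟨inferInstance, Algebra.IsAlgebraic.tower_top (K := k) k'⟩
    haveI : IsAffineHom (Red.bc f G).hom := MorphismProperty.pullback_snd (P := @IsAffineHom) _ _ inferInstance
    haveI : LocallyOfFiniteType (Red.bc f G).hom := MorphismProperty.pullback_snd (P := @LocallyOfFiniteType) _ _ inferInstance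
    haveI : LocallyOfFiniteType (Red.bc f X).hom := MorphismProperty.pullback_snd (P := @LocallyOfFiniteType) _ _ inferInstance
    let T₀ : Over (Spec (CommRingCat.of k)) := Over.mk (Spec.map (CommRingCat.ofHom (algebraMap k (Ω))))
    let U : Over (Spec (CommRingCat.of k')) := SGA7.pt (K := k') (Ω)
    let j : T₀ ≅ (Over.map f).obj U := mapPtIso k k' Ω
    let e := fun (Z : Over (Spec (CommRingCat.of k))) => (Over.mapPullbackAdj f).homEquiv U Z
    obtain ⟨Y, a, φ, q, ha, hloc, hφ, hq⟩ := StackCountLib.exists_model k' (Ω) (aX.bc f)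
      (e X (j.inv ≫ x)) (fun σ => by
        let s : T₀ ⟶ T₀ := Over.homMk (Spec.map (CommRingCat.ofHom σ.toRingEquiv.toRingHom)) (by
          show Spec.map _ ≫ Spec.map _ = Spec.map _
          rw [← Spec.map_comp, ← CommRingCat.ofHom_comp]
          exact congrArg (fun φ => Spec.map (CommRingCat.ofHom φ)) (RingHom.ext fun c =>
            (σ.restrictScalars k).commutes c))
        obtain ⟨g, hg⟩ := H σ s rfl
        refine ⟨e G (j.inv ≫ g), ?_⟩
        show lift (e G (j.inv ≫ g)) (e X (j.inv ≫ x)) ≫ (aX.bc f).act = SGA7.specAut σ ≫ e X (j.inv ≫ x)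
        have hsj : (Over.map f).map (SGA7.specAut (K := k') σ) ≫ j.inv = j.inv ≫ s :=
          mapPtIso_specAut k k' Ω σ s rfl
        rw [AlgGrp.Action.lift_homEquiv_bc_act, ← Adjunction.homEquiv_naturality_left, ← StackCountLib.comp_act, hg,
          reassoc_of% hsj])
    let φ₀ : (Over.map f).obj Y ⟶ X := ((Over.mapPullbackAdj f).homEquiv Y X).symm φ
    let B : AlgSt.QuotObj Scheme.etalePrecoverage G aX :=
      { base := Over.mk f, P := (Over.map f).obj Y, act := StackCountLib.BC.down a, π := StackCountLib.BC.downπ Y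
        cart := StackCountLib.BC.down_cart a ha
        loc := hloc
        φ := φ₀
        eqv := by
          have key : ∀ {W : Over (Spec (CommRingCat.of k))} (g : W ⟶ G) (v : W ⟶ (Over.map f).obj Y),
              lift g v ≫ (StackCountLib.BC.down a).act ≫ φ₀ = lift g (v ≫ φ₀) ≫ aX.act := fun g v => by
            rw [← cancel_epi (StackCountLib.BC.srcTo v), comp_lift_assoc, comp_lift_assoc,
              ← Category.assoc (StackCountLib.BC.srcTo v) v, StackCountLib.BC.srcTo_comp, ← Category.assoc,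
              StackCountLib.BC.down_pt, ← Adjunction.homEquiv_naturality_left_symm, Category.assoc, hφ,
              lift_whiskerLeft_assoc, Equiv.symm_apply_eq, ← AlgGrp.Action.lift_homEquiv_bc_act,
              ← Adjunction.homEquiv_naturality_left_symm, Equiv.apply_symm_apply]
          have := key (fst G ((Over.map f).obj Y)) (snd G ((Over.map f).obj Y))
          rw [lift_fst_snd, Category.id_comp] at this
          rw [this]
          rfl }
    let tB : T₀ ⟶ B.P := j.hom ≫ (Over.map f).map q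
    have htπ : tB ≫ B.π = ιk := by
      refine Over.OverMorphism.ext ?_
      rw [hι, show tB = j.hom ≫ (Over.map f).map q from rfl, Category.assoc]
      exact mapPtIso_π k k' Ω q
    have htx : tB ≫ B.φ = x := by
      show (j.hom ≫ (Over.map f).map q) ≫ φ₀ = x
      rw [Category.assoc, ← Adjunction.homEquiv_naturality_left_symm, hq, Equiv.symm_apply_apply, Iso.hom_inv_id_assoc]
    obtain ⟨i⟩ := StackCountLib.exists_iso_tf (aX := aX) (K := Scheme.etalePrecoverage) A t ht
    refine ⟨B, rfl, i.hom.1 ≫ QuotStLib.homOfSection B tB x htx ιk htπ, ?_⟩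
    show i.hom.1.base ≫ ιk = _
    rw [StackCountLib.hom_base]
    simp

end StackCountLib
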