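import Groth.Agent.QuotStLib.MapRep

/-!
# Torsors with a point over a covering, and their cocycles
-/

set_option autoImplicit false
set_option linter.all false
set_option backward.isDefEq.respectTransparency false
set_option backward.isDefEq.respectTransparency.types false

noncomputable section

universe u w

open CategoryTheory CategoryTheory.Limits MonoidalCategory CartesianMonoidalCategory AlgebraicGeometry
open scoped MonObj

namespace StackCountLib

variable {S : Scheme.{u}}

/-- A cover `p` of the terminal object with a family of automorphisms having effective descent of morphisms. -/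
structure GalCover (p : Over S) (Γ : Type w) (s : Γ → (p ⟶ p)) : Prop where
  epi : ∀ T : Over S, Epi (fst T p)
  desc : ∀ (T X : Over S) (a : T ⊗ p ⟶ X), (∀ σ, (T ◁ s σ) ≫ a = a) → ∃ g : T ⟶ X, fst T p ≫ g = a

variable {p : Over S} {Γ : Type w} {s : Γ → (p ⟶ p)} (hp : GalCover p Γ s)
variable {G X P P' : Over S} [GrpObj G] (a : AlgGrp.Action G P)

include hp in
theorem GalCover.hom_ext {T X : Over S} {g g' : T ⟶ X} (h : fst T p ≫ g = fst T p ≫ g') : g = g' :=
  haveI := hp.epi T
  (cancel_epi (fst T p)).1 h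

omit [GrpObj G] in
@[reassoc]
theorem whisker_fst (T : Over S) (t : p ⟶ p) : (T ◁ t) ≫ fst T p = fst T p := whiskerLeft_fst _ _

section Act

theorem act_assoc {T : Over S} (g h : T ⟶ G) (x : T ⟶ P) :
    lift g (lift h x ≫ a.act) ≫ a.act = lift (g * h) x ≫ a.act := (QuotStLib.act_mul a g h x).symm

theorem comp_act {T T' : Over S} (f : T' ⟶ T) (g : T ⟶ G) (x : T ⟶ P) :
    f ≫ lift g x ≫ a.act = lift (f ≫ g) (f ≫ x) ≫ a.act := by rw [← Category.assoc, comp_lift]

variable [IsIso (lift a.act (snd G P))]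

/-- The translation between two points of a pseudo-torsor. -/
def dlt {T : Over S} (v w : T ⟶ P) : T ⟶ G := lift v w ≫ inv (lift a.act (snd G P)) ≫ fst G P

theorem dlt_unique {T : Over S} {v w : T ⟶ P} {g : T ⟶ G} (h : lift g w ≫ a.act = v) : g = dlt a v w := by
  have e : lift g w ≫ lift a.act (snd G P) = lift v w := by
    rw [comp_lift, h, lift_snd]
  rw [dlt, ← e, Category.assoc, IsIso.hom_inv_id_assoc, lift_fst]

theorem dlt_spec {T : Over S} (v w : T ⟶ P) : lift (dlt a v w) w ≫ a.act = v := by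
  have e : lift v w ≫ inv (lift a.act (snd G P)) ≫ snd G P = w := by
    rw [show inv (lift a.act (snd G P)) ≫ snd G P = snd P P by rw [IsIso.inv_comp_eq, lift_snd], lift_snd]
  have e' : lift (dlt a v w) w = lift v w ≫ inv (lift a.act (snd G P)) := by
    refine CartesianMonoidalCategory.hom_ext _ _ ?_ ?_
    · rw [lift_fst, Category.assoc]; rfl
    · rw [lift_snd, Category.assoc, e]
  rw [e', Category.assoc, show inv (lift a.act (snd G P)) ≫ a.act = fst P P by rw [IsIso.inv_comp_eq, lift_fst], lift_fst]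

theorem comp_dlt {T T' : Over S} (f : T' ⟶ T) (v w : T ⟶ P) : f ≫ dlt a v w = dlt a (f ≫ v) (f ≫ w) := by
  simp only [dlt, ← Category.assoc, comp_lift]

theorem dlt_self {T : Over S} (v : T ⟶ P) : dlt a v v = 1 := (dlt_unique a (QuotStLib.act_one a v)).symm

theorem dlt_mul {T : Over S} (u v w : T ⟶ P) : dlt a u v * dlt a v w = dlt a u w :=
  dlt_unique a (by rw [← act_assoc, dlt_spec, dlt_spec])

theorem act_injective {T : Over S} {g g' : T ⟶ G} {w : T ⟶ P} (h : lift g w ≫ a.act = lift g' w ≫ a.act) :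
    g = g' := (dlt_unique a h).trans (dlt_unique a (g := g') rfl).symm

end Act

section Hom

variable {a} (a' : AlgGrp.Action G P')

/-- The equivariant maps are determined by the image of a point over the cover. -/
theorem equivariant_ext (hp : GalCover p Γ s) [IsIso (lift a.act (snd G P))] (q : p ⟶ P) {f f' : P ⟶ P'}
    (hf : a.act ≫ f = (G ◁ f) ≫ a'.act) (hf' : a.act ≫ f' = (G ◁ f') ≫ a'.act) (h : q ≫ f = q ≫ f') : f = f' := by
  refine hp.hom_ext ?_
  rw [← dlt_spec a (fst P p) (snd P p ≫ q), Category.assoc, Category.assoc, hf, hf', ← Category.assoc,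
    ← Category.assoc, lift_whiskerLeft, lift_whiskerLeft, Category.assoc, Category.assoc, h]

/-- An equivariant map exists for every compatible image of the point. -/
theorem exists_equivariant (hp : GalCover p Γ s) [IsIso (lift a.act (snd G P))] (q : p ⟶ P) (q' : p ⟶ P')
    (h : ∀ σ, lift (dlt a q (s σ ≫ q)) (s σ ≫ q') ≫ a'.act = q') :
    ∃ f : P ⟶ P', a.act ≫ f = (G ◁ f) ≫ a'.act ∧ q ≫ f = q' := by
  obtain ⟨f, hf⟩ := hp.desc P P' (lift (dlt a (fst P p) (snd P p ≫ q)) (snd P p ≫ q') ≫ a'.act) fun σ => by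
    rw [comp_act, comp_dlt, whisker_fst, whiskerLeft_snd_assoc, whiskerLeft_snd_assoc,
      ← dlt_mul a (fst P p) (snd P p ≫ q) (snd P p ≫ s σ ≫ q), ← act_assoc, ← comp_dlt, ← comp_act, h σ]
  have key : ∀ {T : Over S} (v : T ⟶ P) (c : T ⟶ p), v ≫ f = lift (dlt a v (c ≫ q)) (c ≫ q') ≫ a'.act := by
    intro T v c
    have := lift v c ≫= hf
    rw [lift_fst_assoc, comp_act, comp_dlt, lift_fst, lift_snd_assoc, lift_snd_assoc] at this
    exact this
  refine ⟨f, hp.hom_ext ?_, ?_⟩
  · rw [← Category.assoc, key (fst (G ⊗ P) p ≫ a.act) (snd _ p), QuotStLib.whisker_eq_lift, ← Category.assoc, comp_lift,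
      ← Category.assoc _ (snd G P), key (fst (G ⊗ P) p ≫ snd G P) (snd _ p), act_assoc]
    refine congrArg (fun g => lift g (snd (G ⊗ P) p ≫ q') ≫ a'.act) (dlt_unique a ?_).symm
    rw [← act_assoc, dlt_spec, ← comp_act]
    rw [lift_fst_snd, Category.id_comp]
  · rw [key q (𝟙 p), Category.id_comp, Category.id_comp, dlt_self, QuotStLib.act_one]

end Hom

end StackCountLib
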