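import Groth.Agent.StackCountLib.Orbit
import Groth.Agent.StackCountLib.Tors

/-!
# Objects of a quotient stack over a point, by cocycles
-/

set_option autoImplicit false
set_option linter.all false
set_option backward.isDefEq.respectTransparency false
set_option backward.isDefEq.respectTransparency.types false

noncomputable section

universe u w

open CategoryTheory CategoryTheory.Limits MonoidalCategory CartesianMonoidalCategory AlgebraicGeometry
open scoped MonObj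

namespace StackCountLib

variable {S : Scheme.{u}} {p : Over S} {Γ : Type w} {s : Γ → (p ⟶ p)} (hp : GalCover p Γ s)
variable {G X : Over S} [GrpObj G] {aX : AlgGrp.Action G X} {K : Precoverage Scheme.{u}} [K.HasIsos]
variable {T : Over S} (hT : IsTerminal T)

include hT in
/-- The shear map of a torsor over the terminal object is invertible. -/
theorem isIso_shear {A : AlgSt.QuotObj K G aX} (e : A.base = T) : IsIso (lift A.act.act (snd G A.P)) := by
  have hb : IsTerminal A.base := e ▸ hT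
  refine ⟨A.cart.lift (fst _ _) (snd _ _) (hb.hom_ext _ _), A.cart.hom_ext ?_ ?_,
    CartesianMonoidalCategory.hom_ext _ _ ?_ ?_⟩
  · rw [Category.assoc, A.cart.lift_fst, Category.id_comp, lift_fst]
  · rw [Category.assoc, A.cart.lift_snd, Category.id_comp, lift_snd]
  · rw [Category.assoc, lift_fst, Category.id_comp]; exact A.cart.lift_fst _ _ _
  · rw [Category.assoc, lift_snd, Category.id_comp]; exact A.cart.lift_snd _ _ _

variable (aX s) in
/-- The action on pairs of a cochain and a point. -/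
def dact (h : p ⟶ G) (d : (Γ → (p ⟶ G)) × (p ⟶ X)) : (Γ → (p ⟶ G)) × (p ⟶ X) :=
  (fun σ => h * d.1 σ * (s σ ≫ h)⁻¹, lift h d.2 ≫ aX.act)

variable (aX s) in
/-- The action on pairs is an action. -/
@[reducible] def dataAction : MulAction (p ⟶ G) ((Γ → (p ⟶ G)) × (p ⟶ X)) where
  smul := dact s aX
  one_smul d := Prod.ext (funext fun σ => by
    show 1 * d.1 σ * (s σ ≫ 1)⁻¹ = d.1 σ
    rw [MonObj.comp_one, inv_one, mul_one, one_mul]) (QuotStLib.act_one aX _)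
  mul_smul g h d := Prod.ext (funext fun σ => by
    show g * h * d.1 σ * (s σ ≫ (g * h))⁻¹ = g * (h * d.1 σ * (s σ ≫ h)⁻¹) * (s σ ≫ g)⁻¹
    rw [MonObj.comp_mul, mul_inv_rev]
    simp only [mul_assoc]) (QuotStLib.act_mul aX g h _)

/-- The pair of an object with a point. -/
def dataOf (ξ : Fib aX K T) (q : p ⟶ ξ.1.P) : (Γ → (p ⟶ G)) × (p ⟶ X) :=
  haveI := isIso_shear hT ξ.2
  (fun σ => dlt ξ.1.act q (s σ ≫ q), q ≫ ξ.1.φ)

theorem dataOf_compat (ξ : Fib aX K T) (q : p ⟶ ξ.1.P) (σ : Γ) :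
    lift ((dataOf (s := s) hT ξ q).1 σ) (s σ ≫ (dataOf (s := s) hT ξ q).2) ≫ aX.act =
      (dataOf (s := s) hT ξ q).2 := by
  haveI := isIso_shear hT ξ.2
  show lift (dlt ξ.1.act q (s σ ≫ q)) (s σ ≫ q ≫ ξ.1.φ) ≫ aX.act = q ≫ ξ.1.φ
  conv_rhs => rw [← dlt_spec ξ.1.act q (s σ ≫ q), Category.assoc, ξ.1.eqv, ← Category.assoc, lift_whiskerLeft,
    Category.assoc]

theorem dataOf_cocycle (ξ : Fib aX K T) (q : p ⟶ ξ.1.P) {σ τ ρ : Γ} (hρ : s ρ = s σ ≫ s τ) :
    (dataOf (s := s) hT ξ q).1 ρ =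
      (dataOf (s := s) hT ξ q).1 σ * s σ ≫ (dataOf (s := s) hT ξ q).1 τ := by
  haveI := isIso_shear hT ξ.2
  show dlt ξ.1.act q (s ρ ≫ q) = dlt ξ.1.act q (s σ ≫ q) * s σ ≫ dlt ξ.1.act q (s τ ≫ q)
  rw [comp_dlt, dlt_mul, hρ, Category.assoc]

/-- Changing the point moves the pair. -/
theorem dataOf_act (ξ : Fib aX K T) (q : p ⟶ ξ.1.P) (h : p ⟶ G) :
    dataOf (s := s) hT ξ (lift h q ≫ ξ.1.act.act) = dact s aX h (dataOf (s := s) hT ξ q) := by
  haveI := isIso_shear hT ξ.2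
  refine Prod.ext (funext fun σ => (dlt_unique ξ.1.act ?_).symm) ?_
  · show lift (h * dlt ξ.1.act q (s σ ≫ q) * (s σ ≫ h)⁻¹) (s σ ≫ lift h q ≫ ξ.1.act.act) ≫ ξ.1.act.act =
      lift h q ≫ ξ.1.act.act
    rw [comp_act, act_assoc, inv_mul_cancel_right, ← act_assoc, dlt_spec]
  · show (lift h q ≫ ξ.1.act.act) ≫ ξ.1.φ = lift h (q ≫ ξ.1.φ) ≫ aX.act
    rw [Category.assoc, ξ.1.eqv, ← Category.assoc, lift_whiskerLeft]

include hp in
theorem exists_top {ξ ξ' : Fib aX K T} (q : p ⟶ ξ.1.P) (q' : p ⟶ ξ'.1.P) (h : p ⟶ G)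
    (hd : dact s aX h (dataOf (s := s) hT ξ' q') = dataOf (s := s) hT ξ q) :
    ∃ f : ξ.1.P ⟶ ξ'.1.P, ξ.1.act.act ≫ f = (G ◁ f) ≫ ξ'.1.act.act ∧ q ≫ f = lift h q' ≫ ξ'.1.act.act := by
  haveI := isIso_shear hT ξ.2
  haveI := isIso_shear hT ξ'.2
  rw [← dataOf_act] at hd
  refine exists_equivariant (a := ξ.1.act) ξ'.1.act hp q (lift h q' ≫ ξ'.1.act.act) fun σ => ?_
  have e : dlt ξ'.1.act (lift h q' ≫ ξ'.1.act.act) (s σ ≫ lift h q' ≫ ξ'.1.act.act) =
      dlt ξ.1.act q (s σ ≫ q) := congrFun (congrArg Prod.fst hd) σ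
  rw [← e]
  exact dlt_spec _ _ _

include hp in
theorem exists_iso {ξ ξ' : Fib aX K T} (q : p ⟶ ξ.1.P) (q' : p ⟶ ξ'.1.P) (h : p ⟶ G)
    (hd : dact s aX h (dataOf (s := s) hT ξ' q') = dataOf (s := s) hT ξ q) :
    ∃ φ : ξ ≅ ξ', q ≫ φ.hom.1.top = lift h q' ≫ ξ'.1.act.act := by
  letI := dataAction s aX (G := G) (p := p)
  haveI := isIso_shear hT ξ.2
  haveI := isIso_shear hT ξ'.2
  obtain ⟨f, hf, hf'⟩ := exists_top hp hT q q' h hd
  obtain ⟨f₁, hf₁, hf₁'⟩ := exists_top hp hT q' q h⁻¹ (by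
    rw [← hd]; exact inv_smul_smul h (dataOf (s := s) hT ξ' q'))
  have e₁ : f ≫ f₁ = 𝟙 _ := by
    refine equivariant_ext (a := ξ.1.act) ξ.1.act hp q ?_ (by simp) ?_
    · rw [← Category.assoc, hf, Category.assoc, hf₁, MonoidalCategory.whiskerLeft_comp, Category.assoc]
    · rw [← Category.assoc, hf', Category.assoc, hf₁, ← Category.assoc, lift_whiskerLeft, hf₁', act_assoc,
        mul_inv_cancel, QuotStLib.act_one, Category.comp_id]
  have e₂ : f₁ ≫ f = 𝟙 _ := by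
    refine equivariant_ext (a := ξ'.1.act) ξ'.1.act hp q' ?_ (by simp) ?_
    · rw [← Category.assoc, hf₁, Category.assoc, hf, MonoidalCategory.whiskerLeft_comp, Category.assoc]
    · rw [← Category.assoc, hf₁', Category.assoc, hf, ← Category.assoc, lift_whiskerLeft, hf', act_assoc,
        inv_mul_cancel, QuotStLib.act_one, Category.comp_id]
  haveI : IsIso f := ⟨f₁, e₁, e₂⟩
  have wφ : f ≫ ξ'.1.φ = ξ.1.φ := by
    refine equivariant_ext (a := ξ.1.act) aX hp q ?_ ξ.1.eqv ?_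
    · rw [← Category.assoc, hf, Category.assoc, ξ'.1.eqv, MonoidalCategory.whiskerLeft_comp, Category.assoc]
    · rw [← Category.assoc, hf', Category.assoc, ξ'.1.eqv, ← Category.assoc, lift_whiskerLeft]
      exact congrArg Prod.snd hd
  have hb' : IsTerminal ξ'.1.base := hT.ofIso (eqToIso ξ'.2.symm)
  let e : ξ.1.base ≅ ξ'.1.base := eqToIso (ξ.2.trans ξ'.2.symm)
  have wπ : f ≫ ξ'.1.π = ξ.1.π ≫ e.hom := hb'.hom_ext _ _
  let h₁ : ξ.1 ⟶ ξ'.1 := ⟨e.hom, f, hf, IsPullback.of_horiz_isIso ⟨wπ⟩, wφ⟩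
  obtain ⟨κ, hκ, hκ'⟩ := QuotStLib.exists_iso h₁ (𝟙 ξ'.1) (ξ.2.trans ξ'.2.symm) (Category.comp_id _).symm
  rw [Category.comp_id] at hκ'
  refine ⟨fibIso κ (by rw [hκ, eqToHom_trans]), ?_⟩
  show q ≫ κ.hom.top = _
  rw [hκ']
  exact hf'

include hp in
/-- Isomorphisms are the transporters of pairs. -/
theorem isoEquiv_bijective {ξ ξ' : Fib aX K T} (q : p ⟶ ξ.1.P) (q' : p ⟶ ξ'.1.P) :
    ∃ e : (ξ ≅ ξ') → {h : p ⟶ G // dact s aX h (dataOf (s := s) hT ξ' q') = dataOf (s := s) hT ξ q},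
      Function.Bijective e := by
  haveI := isIso_shear hT ξ.2
  haveI := isIso_shear hT ξ'.2
  have key : ∀ φ : ξ ≅ ξ', dact s aX (dlt ξ'.1.act (q ≫ φ.hom.1.top) q') (dataOf (s := s) hT ξ' q') =
      dataOf (s := s) hT ξ q := fun φ => by
    rw [← dataOf_act, dlt_spec]
    refine Prod.ext (funext fun σ => (dlt_unique ξ'.1.act ?_).symm) ?_
    · show lift (dlt ξ.1.act q (s σ ≫ q)) (s σ ≫ q ≫ φ.hom.1.top) ≫ ξ'.1.act.act = q ≫ φ.hom.1.top
      conv_rhs => rw [← dlt_spec ξ.1.act q (s σ ≫ q), Category.assoc, φ.hom.1.eqv, ← Category.assoc,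
        lift_whiskerLeft, Category.assoc]
    · show (q ≫ φ.hom.1.top) ≫ ξ'.1.φ = q ≫ ξ.1.φ
      rw [Category.assoc, φ.hom.1.wφ]
  refine ⟨fun φ => ⟨_, key φ⟩, fun φ ψ h => ?_, fun ⟨h, hh⟩ => ?_⟩
  · have h' := congrArg (fun t => lift t q' ≫ ξ'.1.act.act) (congrArg Subtype.val h)
    simp only [dlt_spec] at h'
    refine Iso.ext (Functor.Fiber.hom_ext (AlgSt.QuotObj.hom_ext ((hom_base φ.hom).trans (hom_base ψ.hom).symm) ?_))
    exact equivariant_ext (a := ξ.1.act) ξ'.1.act hp q φ.hom.1.eqv ψ.hom.1.eqv h'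
  · obtain ⟨φ, hφ⟩ := exists_iso hp hT q q' h hh
    exact ⟨φ, Subtype.ext (dlt_unique ξ'.1.act hφ.symm).symm⟩

include hp in
/-- An object with prescribed pair, from a torsor with a point. -/
theorem exists_obj {Y : Over S} (a : AlgGrp.Action G Y) [IsIso (lift a.act (snd G Y))] (q : p ⟶ Y)
    (z : Γ → (p ⟶ G)) (hq : ∀ σ, lift (z σ) (s σ ≫ q) ≫ a.act = q) (x : p ⟶ X)
    (hx : ∀ σ, lift (z σ) (s σ ≫ x) ≫ aX.act = x)
    (hloc : NonAbH1.IsLocallyTrivialFor K (Over.mk (hT.from Y).left : Over T.left)) :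
    ∃ (ξ : Fib aX K T) (q' : p ⟶ ξ.1.P), dataOf (s := s) hT ξ q' = (z, x) := by
  obtain ⟨φ, hφ, hφ'⟩ := exists_equivariant (a := a) aX hp q x fun σ => by
    rw [← dlt_unique a (hq σ)]; exact hx σ
  have cart : IsPullback a.act (snd G Y) (hT.from Y) (hT.from Y) := by
    refine IsPullback.of_isLimit (c := PullbackCone.mk a.act (snd G Y) (hT.hom_ext _ _)) ?_
    refine PullbackCone.isLimitAux' _ fun c => ⟨lift c.fst c.snd ≫ inv (lift a.act (snd G Y)), ?_, ?_, ?_⟩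
    · show _ ≫ a.act = _
      rw [Category.assoc, show inv (lift a.act (snd G Y)) ≫ a.act = fst Y Y by rw [IsIso.inv_comp_eq, lift_fst],
        lift_fst]
    · show _ ≫ snd G Y = _
      rw [Category.assoc, show inv (lift a.act (snd G Y)) ≫ snd G Y = snd Y Y by rw [IsIso.inv_comp_eq, lift_snd],
        lift_snd]
    · intro m h₁ h₂
      rw [IsIso.eq_comp_inv, comp_lift]
      exact congrArg₂ lift h₁ h₂
  let A : AlgSt.QuotObj K G aX := ⟨T, Y, a, hT.from Y, cart, hloc, φ, hφ⟩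
  let ξ : Fib aX K T := ⟨A, rfl⟩
  exact ⟨ξ, q, Prod.ext (funext fun σ => (dlt_unique a (hq σ)).symm) hφ'⟩

variable (aX K) in
/-- The realised pairs. -/
def realised : Set ((Γ → (p ⟶ G)) × (p ⟶ X)) :=
  {d | ∃ (ξ : Fib aX K T) (q : p ⟶ ξ.1.P), dataOf (s := s) hT ξ q = d}

include hp in
/-- The mass formula. -/
theorem mass_data [Finite Γ] [Finite (p ⟶ G)] [Finite (p ⟶ X)]
    (hsec : ∀ ξ : Fib aX K T, Nonempty (p ⟶ ξ.1.P)) :
    Finite (Quotient (isIsomorphicSetoid (Fib aX K T))) ∧ (∀ ξ : Fib aX K T, Finite (Aut ξ)) ∧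
      ∑ᶠ c : Quotient (isIsomorphicSetoid (Fib aX K T)), ((Nat.card (Aut c.out) : ℚ))⁻¹ =
        (Nat.card (realised (s := s) aX K hT) : ℚ) / (Nat.card (p ⟶ G) : ℚ) := by
  classical
  letI := dataAction s aX (G := G) (p := p)
  let q := fun ξ : Fib aX K T => (hsec ξ).some
  let V : SubMulAction (p ⟶ G) ((Γ → (p ⟶ G)) × (p ⟶ X)) :=
    { carrier := realised (s := s) aX K hT
      smul_mem' := fun h _ ⟨ξ, t, e⟩ => ⟨ξ, _, (dataOf_act hT ξ t h).trans (congrArg (dact s aX h) e)⟩ }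
  let D : Fib aX K T → V := fun ξ => ⟨_, ξ, q ξ, rfl⟩
  let Ω := MulAction.orbitRel.Quotient (p ⟶ G) V
  have hbij := fun ξ ξ' : Fib aX K T => isoEquiv_bijective hp hT (q ξ) (q ξ')
  have hiff : ∀ ξ ξ' : Fib aX K T, Nonempty (ξ ≅ ξ') ↔ MulAction.orbitRel (p ⟶ G) V (D ξ) (D ξ') := fun ξ ξ' => by
    obtain ⟨e, he⟩ := hbij ξ ξ'
    exact ⟨fun ⟨φ⟩ => ⟨(e φ).1, Subtype.ext (e φ).2⟩, fun ⟨h, hh⟩ => ⟨(he.2 ⟨h, congrArg Subtype.val hh⟩).choose⟩⟩
  let f : Quotient (isIsomorphicSetoid (Fib aX K T)) → Ω :=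
    Quotient.lift (fun ξ => Quotient.mk _ (D ξ)) fun ξ ξ' h => Quotient.sound ((hiff ξ ξ').1 h)
  have hf : Function.Bijective f := by
    refine ⟨?_, ?_⟩
    · intro c c'
      induction c using Quotient.ind
      induction c' using Quotient.ind
      intro h
      exact Quotient.sound ((hiff _ _).2 (Quotient.exact h))
    · intro ω
      induction ω using Quotient.ind with
      | _ v =>
        obtain ⟨_, ξ, t, rfl⟩ := v
        refine ⟨Quotient.mk _ ξ, Quotient.sound ?_⟩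
        haveI := isIso_shear hT ξ.2
        refine ⟨dlt ξ.1.act (q ξ) t, Subtype.ext ?_⟩
        exact (dataOf_act hT ξ t _).symm.trans (congrArg (dataOf (s := s) hT ξ) (dlt_spec ξ.1.act (q ξ) t))
  have haut : ∀ ξ : Fib aX K T, Nonempty (Aut ξ ≃ MulAction.stabilizer (p ⟶ G) (D ξ)) := fun ξ => by
    obtain ⟨e, he⟩ := hbij ξ ξ
    exact ⟨(Equiv.ofBijective e he).trans (Equiv.subtypeEquivRight fun h => ⟨fun hh => Subtype.ext hh, fun hh => congrArg Subtype.val hh⟩)⟩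
  haveI : Finite V := inferInstanceAs (Finite (realised (s := s) aX K hT))
  haveI : Finite Ω := Quotient.finite _
  have hfin : ∀ ξ : Fib aX K T, Finite (Aut ξ) := fun ξ => Finite.of_equiv _ (haut ξ).some.symm
  haveI : Finite (Quotient (isIsomorphicSetoid (Fib aX K T))) := Finite.of_injective f hf.1
  refine ⟨inferInstance, hfin, ?_⟩
  letI : Fintype Ω := Fintype.ofFinite _
  letI : Fintype (Quotient (isIsomorphicSetoid (Fib aX K T))) := Fintype.ofFinite _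
  rw [finsum_eq_sum_of_fintype]
  have hG : (Nat.card (p ⟶ G) : ℚ) ≠ 0 := Nat.cast_ne_zero.2 (Nat.card_pos).ne'
  have hcard : ∀ c : Quotient (isIsomorphicSetoid (Fib aX K T)),
      ((Nat.card (Aut c.out) : ℚ))⁻¹ = (Nat.card (f c).orbit : ℚ) / (Nat.card (p ⟶ G) : ℚ) := fun c => by
    let x := D c.out
    have hc : f c = Quotient.mk _ x := (congrArg f (Quotient.out_eq c)).symm.trans rfl
    have h1 : Nat.card (Aut c.out) = Nat.card (MulAction.stabilizer (p ⟶ G) x) := Nat.card_congr (haut c.out).some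
    have h2 : Nat.card (f c).orbit = Nat.card (MulAction.orbit (p ⟶ G) x) := by rw [hc]; rfl
    have h3 : Nat.card (MulAction.orbit (p ⟶ G) x) * Nat.card (MulAction.stabilizer (p ⟶ G) x) = Nat.card (p ⟶ G) := by
      rw [← Nat.card_prod]
      exact Nat.card_congr (MulAction.orbitProdStabilizerEquivGroup (p ⟶ G) x)
    rw [h1, h2, eq_div_iff hG, ← h3, Nat.cast_mul]
    have : (Nat.card (MulAction.stabilizer (p ⟶ G) x) : ℚ) ≠ 0 := Nat.cast_ne_zero.2 (Nat.card_pos).ne'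
    field_simp
  rw [Finset.sum_congr rfl fun c _ => hcard c, ← Finset.sum_div,
    hf.sum_comp (fun ω => (Nat.card ω.orbit : ℚ)), ← Nat.cast_sum, ← Nat.card_sigma]
  congr 2
  exact Nat.card_congr (MulAction.selfEquivSigmaOrbits' (p ⟶ G) V).symm

end StackCountLib
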