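import Mathlib.GroupTheory.SemidirectProduct
import Mathlib.GroupTheory.SpecificGroups.Cyclic
import Mathlib.GroupTheory.Perm.Basic
import Mathlib.Data.Fintype.Perm
import Mathlib.GroupTheory.OrderOfElement

/-!
# Cocycles of a cyclic group
-/

set_option autoImplicit false
set_option linter.all false

universe u v

namespace StackCountLib

variable {Γ : Type u} [Group Γ] {H : Type v} [Group H] [MulDistribMulAction Γ H] [Finite H]

open scoped Nat

/-- For a cyclic group of large enough order cocycles are free on the generator. -/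
theorem cocycle_bijective (F : Γ) (hF : ∀ σ, σ ∈ Subgroup.zpowers F)
    (hN : (Nat.card H)! * Nat.card H ∣ orderOf F) :
    Function.Bijective (fun z : {z : Γ → H // ∀ σ τ, z (σ * τ) = z σ * σ • z τ} => z.1 F) := by
  refine ⟨fun z z' h => ?_, fun h => ?_⟩
  · have one : ∀ z : {z : Γ → H // ∀ σ τ, z (σ * τ) = z σ * σ • z τ}, z.1 1 = 1 := fun z => by
      have := z.2 1 1
      rw [one_smul, one_mul] at this
      exact left_eq_mul.1 this
    let E : Subgroup Γ :=
      { carrier := {σ | z.1 σ = z'.1 σ}
        mul_mem' := fun {a b} ha hb => by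
          show z.1 (a * b) = z'.1 (a * b)
          rw [z.2, z'.2, show z.1 a = z'.1 a from ha, show z.1 b = z'.1 b from hb]
        one_mem' := (one z).trans (one z').symm
        inv_mem' := fun {a} ha => by
          show z.1 a⁻¹ = z'.1 a⁻¹
          have e : ∀ z : {z : Γ → H // ∀ σ τ, z (σ * τ) = z σ * σ • z τ}, z.1 a⁻¹ = (a⁻¹ • z.1 a)⁻¹ := fun z => by
            have := z.2 a⁻¹ a
            rw [inv_mul_cancel, one z] at this
            exact eq_inv_of_mul_eq_one_left this.symm
          rw [e, e, show z.1 a = z'.1 a from ha] }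
    exact Subtype.ext (funext fun σ => (Subgroup.zpowers_le (H := E)).2 h (hF σ))
  · let θ : Γ →* MulAut H := MulDistribMulAction.toMulAut Γ H
    let e : H ⋊[θ] Γ := ⟨h, F⟩
    let m := (Nat.card H)!
    have hm : θ (F ^ m) = 1 := by
      have h1 : (MulAction.toPermHom Γ H (F ^ m)) = 1 := by
        rw [map_pow]
        haveI : Fintype H := Fintype.ofFinite H
        classical
        rw [show m = Fintype.card (Equiv.Perm H) by simp [m, Fintype.card_perm, Nat.card_eq_fintype_card]]
        exact pow_card_eq_one
      ext x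
      exact Equiv.Perm.congr_fun h1 x
    have right : ∀ n : ℕ, (e ^ n).right = F ^ n := fun n =>
      map_pow (SemidirectProduct.rightHom : H ⋊[θ] Γ →* Γ) e n
    have hpow : ∀ n : ℕ, (e ^ (m * n)).left = (e ^ m).left ^ n := fun n => by
      induction n with
      | zero => simp
      | succ n ih =>
        rw [Nat.mul_succ, pow_add, SemidirectProduct.mul_left, ih, right, pow_mul, map_pow, hm, one_pow,
          MulAut.one_apply, pow_succ]
    have he : e ^ orderOf F = 1 := by
      refine SemidirectProduct.ext ?_ ?_
      · obtain ⟨c, hc⟩ := hN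
        rw [SemidirectProduct.one_left, hc, mul_assoc, hpow, pow_mul, pow_card_eq_one', one_pow]
      · rw [SemidirectProduct.one_right, right, pow_orderOf_eq_one]
    let f : Γ →* H ⋊[θ] Γ := monoidHomOfForallMemZpowers hF (g' := e) (orderOf_dvd_of_pow_eq_one he)
    have hfF : f F = e := monoidHomOfForallMemZpowers_apply_gen hF _
    have hright : ∀ σ, (f σ).right = σ := by
      intro σ
      obtain ⟨n, rfl⟩ := Subgroup.mem_zpowers_iff.1 (hF σ)
      rw [map_zpow, hfF]
      exact map_zpow (SemidirectProduct.rightHom : H ⋊[θ] Γ →* Γ) e n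
    refine ⟨⟨fun σ => (f σ).left, fun σ τ => ?_⟩, by show (f F).left = h; rw [hfF]⟩
    show (f (σ * τ)).left = _
    rw [map_mul, SemidirectProduct.mul_left, hright]
    rfl

end StackCountLib
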