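import Groth.Agent.GeoPtLib.Basic
import Groth.Prelude.Def_GalTw
import Groth.Prelude.Def_AlgGrp
import Mathlib.FieldTheory.Finite.GaloisField
import Mathlib.FieldTheory.Finite.Extension

/-!
# Points of torsors over extensions of finite fields
-/

set_option autoImplicit false
set_option linter.all false
set_option backward.isDefEq.respectTransparency false
set_option backward.isDefEq.respectTransparency.types false

noncomputable section

universe u

open CategoryTheory CategoryTheory.Limits MonoidalCategory CartesianMonoidalCategory AlgebraicGeometry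
open scoped MonObj

namespace StackCountLib

variable {k : Type u} [Field k] [Finite k]

/-- Subfields of every degree in the algebraic closure. -/
theorem exists_subfield (N : ℕ) (hN : 0 < N) :
    ∃ K : IntermediateField k (AlgebraicClosure k), FiniteDimensional k K ∧ Module.finrank k K = N := by
  obtain ⟨p, hp⟩ := CharP.exists k
  haveI : Fact p.Prime := ⟨CharP.char_is_prime k p⟩
  haveI : NeZero N := ⟨hN.ne'⟩
  let f : FiniteField.Extension k p N →ₐ[k] AlgebraicClosure k := IsAlgClosed.lift
  let e := AlgEquiv.ofInjectiveField f
  exact ⟨f.fieldRange, Module.Finite.equiv e.toLinearEquiv,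
    e.toLinearEquiv.finrank_eq.symm.trans (FiniteField.finrank_extension k p N)⟩

/-- A scheme with few geometric points has a point over a large extension. -/
theorem exists_point_of_card_le (X : Over (Spec (CommRingCat.of k))) [LocallyOfFiniteType X.hom]
    [Nonempty ↥X.left] [Finite (SGA7.Pts (AlgebraicClosure k) X)] {K : Type u} [Field K] [Algebra k K] [Finite K]
    (hK : ∀ d, 0 < d → d ≤ Nat.card (SGA7.Pts (AlgebraicClosure k) X) → d ∣ Module.finrank k K) :
    Nonempty (SGA7.Pts K X) := by
  classical
  haveI : JacobsonSpace ↥X.left := LocallyOfFiniteType.jacobsonSpace X.hom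
  obtain ⟨z, -, hz⟩ := nonempty_inter_closedPoints (Z := (Set.univ : Set X.left))
    ⟨Classical.arbitrary _, trivial⟩ isOpen_univ.isLocallyClosed
  letI := (WeilLib.resMap X.hom z).hom.toAlgebra
  haveI := GeoPtLib.finite_residueField X.hom hz
  let pt : ∀ {L : Type u} [Field L] [Algebra k L], (X.left.residueField z →ₐ[k] L) → SGA7.Pts L X := fun {L} _ _ a =>
    Over.homMk (Spec.map (CommRingCat.ofHom a.toRingHom) ≫ X.left.fromSpecResidueField z)
      ((GeoPtLib.resMap_comp_iff X.hom z _).2 (by ext r; exact a.commutes r))
  haveI : Finite (X.left.residueField z) := Module.finite_of_finite k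
  have hd : Module.finrank k (X.left.residueField z) ≤ Nat.card (SGA7.Pts (AlgebraicClosure k) X) := by
    rw [← AlgHom.card k (X.left.residueField z) (AlgebraicClosure k), ← Nat.card_eq_fintype_card]
    refine Nat.card_le_card_of_injective (fun a => pt a) fun a b h => ?_
    have h' : Spec.map (CommRingCat.ofHom a.toRingHom) ≫ X.left.fromSpecResidueField z =
        Spec.map (CommRingCat.ofHom b.toRingHom) ≫ X.left.fromSpecResidueField z := congrArg Over.Hom.left h
    exact AlgHom.coe_ringHom_injective
      (congrArg CommRingCat.Hom.hom (Spec.map_injective ((cancel_mono (X.left.fromSpecResidueField z)).1 h')))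
  obtain ⟨a⟩ := FiniteField.nonempty_algHom_of_finrank_dvd (hK _ Module.finrank_pos hd)
  exact ⟨pt a⟩

/-- The restriction of points along an extension of fields is injective. -/
theorem pts_restrict_injective (X : Over (Spec (CommRingCat.of k))) {K L : Type u} [Field K] [Algebra k K]
    [Field L] [Algebra k L] (a : K →ₐ[k] L) :
    Function.Injective (fun x : SGA7.Pts K X =>
      (Over.homMk (Spec.map (CommRingCat.ofHom a.toRingHom)) (by
        show Spec.map _ ≫ Spec.map _ = Spec.map _
        rw [← Spec.map_comp, ← CommRingCat.ofHom_comp]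
        exact congrArg (fun φ => Spec.map (CommRingCat.ofHom φ)) a.comp_algebraMap) : SGA7.pt (K := k) L ⟶ SGA7.pt (K := k) K) ≫ x) := by
  intro x y h
  have h' : Spec.map (CommRingCat.ofHom a.toRingHom) ≫ x.left = Spec.map (CommRingCat.ofHom a.toRingHom) ≫ y.left :=
    congrArg Over.Hom.left h
  haveI : Flat (Spec.map (CommRingCat.ofHom a.toRingHom)) := by
    rw [HasRingHomProperty.Spec_iff (P := @Flat), CommRingCat.hom_ofHom]
    algebraize [a.toRingHom]
    exact inferInstanceAs (Module.Flat K L)
  haveI : Surjective (Spec.map (CommRingCat.ofHom a.toRingHom)) := ⟨fun q => ⟨IsLocalRing.closedPoint L, Subsingleton.elim _ _⟩⟩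
  haveI := Flat.epi_of_flat_of_surjective (Spec.map (CommRingCat.ofHom a.toRingHom))
  exact Over.OverMorphism.ext ((cancel_epi _).1 h')

/-- A pseudo-torsor with a point has as many points as the group. -/
theorem card_pts_torsor {G P : Over (Spec (CommRingCat.of k))} [GrpObj G] (a : AlgGrp.Action G P)
    [IsIso (lift a.act (snd G P))] {T : Over (Spec (CommRingCat.of k))} (q : T ⟶ P) :
    Function.Bijective (fun g : T ⟶ G => lift g q ≫ a.act) := by
  refine ⟨fun g g' h => ?_, fun v => ⟨lift v q ≫ inv (lift a.act (snd G P)) ≫ fst G P, ?_⟩⟩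
  · have e : ∀ g : T ⟶ G, lift g q ≫ lift a.act (snd G P) = lift (lift g q ≫ a.act) q := fun g => by
      rw [comp_lift, lift_snd]
    have := (cancel_mono (lift a.act (snd G P))).1 ((e g).trans ((congrArg (fun t => lift t q) h).trans (e g').symm))
    simpa using congrArg (· ≫ fst G P) this
  · show lift _ q ≫ a.act = v
    have e' : lift (lift v q ≫ inv (lift a.act (snd G P)) ≫ fst G P) q = lift v q ≫ inv (lift a.act (snd G P)) := by
      refine CartesianMonoidalCategory.hom_ext _ _ ?_ ?_
      · rw [lift_fst, Category.assoc]
      · rw [lift_snd, Category.assoc, show inv (lift a.act (snd G P)) ≫ snd G P = snd P P by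
          rw [IsIso.inv_comp_eq, lift_snd], lift_snd]
    rw [e', Category.assoc, show inv (lift a.act (snd G P)) ≫ a.act = fst P P by rw [IsIso.inv_comp_eq, lift_fst],
      lift_fst]

end StackCountLib
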