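import Groth.Agent.StackCountLib.Galois
import Groth.Agent.StackCountLib.Classify
import Groth.Agent.StackCountLib.Cyclic
import Groth.Agent.StackCountLib.Points
import Groth.Agent.StackCountLib.Finite
import Groth.Agent.QuotStLib.Coarse

/-!
# The mass of the classifying stack of a finite group over a finite field
-/

set_option autoImplicit false
set_option linter.all false
set_option backward.isDefEq.respectTransparency false
set_option backward.isDefEq.respectTransparency.types false

noncomputable section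

universe u

open CategoryTheory CategoryTheory.Limits MonoidalCategory CartesianMonoidalCategory AlgebraicGeometry
open scoped MonObj
open AlgSp AlgSpLib AlgStLib

namespace StackCountLib

variable {k : Type u} [Field k]

theorem finite_pts_finite (X : Over (Spec (CommRingCat.of k))) [IsFinite X.hom] (L : Type u) [Field L] [Algebra k L] :
    Finite (SGA7.Pts L X) := by
  haveI : IsAffine X.left := isAffine_of_isAffineHom X.hom
  let jj : k →+* Γ(X.left, ⊤) := ((Scheme.ΓSpecIso (CommRingCat.of k)).inv ≫ X.hom.appTop).hom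
  have hι : jj.Finite := by
    show ((X.hom.appTop).hom.comp _).Finite
    exact ((HasAffineProperty.iff_of_isAffine (P := @IsFinite)).1 ‹IsFinite X.hom›).2.comp
      (RingHom.Finite.of_surjective _ (Scheme.ΓSpecIso (CommRingCat.of k)).symm.commRingCatIsoToRingEquiv.surjective)
  letI := jj.toAlgebra
  haveI : Module.Finite k Γ(X.left, ⊤) := hι
  refine Finite.of_injective (fun x : SGA7.Pts L X =>
    ({ toRingHom := ((x.left.appTop) ≫ (Scheme.ΓSpecIso (CommRingCat.of L)).hom).hom
       commutes' := fun r => by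
        have h := congrArg (fun f => (f.appTop ≫ (Scheme.ΓSpecIso (CommRingCat.of L)).hom).hom
          ((Scheme.ΓSpecIso (CommRingCat.of k)).inv.hom r)) (Over.w x)
        simp only [Scheme.Hom.comp_appTop, Category.assoc] at h
        exact h.trans (by
          show ((Scheme.ΓSpecIso (CommRingCat.of k)).inv ≫ (Spec.map (CommRingCat.ofHom (algebraMap k L))).appTop ≫
            (Scheme.ΓSpecIso (CommRingCat.of L)).hom).hom r = _
          rw [Scheme.ΓSpecIso_naturality, Iso.inv_hom_id_assoc]
          rfl) } : Γ(X.left, ⊤) →ₐ[k] L)) fun x y h => ?_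
  refine Over.OverMorphism.ext (ext_of_isAffine ?_)
  have h' : x.left.appTop ≫ (Scheme.ΓSpecIso (CommRingCat.of L)).hom =
      y.left.appTop ≫ (Scheme.ΓSpecIso (CommRingCat.of L)).hom :=
    CommRingCat.hom_ext (congrArg AlgHom.toRingHom h)
  exact (cancel_mono _).1 h'

/-- A universal splitting field. -/
theorem exists_split [Finite k] (G : Over (Spec (CommRingCat.of k))) [GrpObj G] [IsFinite G.hom] :
    ∃ (K : Type u) (_ : Field K) (_ : Algebra k K) (_ : Finite K) (_ : FiniteDimensional k K) (_ : IsGalois k K)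
      (F : K ≃ₐ[k] K), (∀ σ, σ ∈ Subgroup.zpowers F) ∧ Finite (SGA7.Pts K G) ∧
      (Nat.card (SGA7.Pts K G)).factorial * Nat.card (SGA7.Pts K G) ∣ orderOf F ∧
      ∀ d, 0 < d → d ≤ Nat.card (SGA7.Pts (AlgebraicClosure k) G) → d ∣ Module.finrank k K := by
  let n := Nat.card (SGA7.Pts (AlgebraicClosure k) G)
  haveI := finite_pts_finite G (AlgebraicClosure k)
  obtain ⟨K, hK, hN⟩ := exists_subfield (k := k) (n.factorial * n.factorial) (Nat.mul_pos n.factorial_pos n.factorial_pos)
  haveI := hK
  haveI : Finite K := Module.finite_of_finite k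
  obtain ⟨F, hF⟩ := IsCyclic.exists_generator (α := (K ≃ₐ[k] K))
  have hle : Nat.card (SGA7.Pts K G) ≤ n :=
    Nat.card_le_card_of_injective _ (pts_restrict_injective G K.val)
  have hfin : Finite (SGA7.Pts K G) := finite_pts_finite G K
  refine ⟨K, inferInstance, inferInstance, inferInstance, inferInstance, inferInstance, F, hF, hfin, ?_,
    fun d hd hdn => ?_⟩
  · rw [orderOf_eq_card_of_forall_mem_zpowers hF, IsGalois.card_aut_eq_finrank, hN]
    haveI := hfin
    exact mul_dvd_mul (Nat.factorial_dvd_factorial hle) (Nat.dvd_factorial Nat.card_pos hle)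
  · rw [hN]
    exact dvd_mul_of_dvd_left (Nat.dvd_factorial hd hdn) _

theorem singleton_mem_etale (K : Type u) [Field K] [Algebra k K] [FiniteDimensional k K] [IsGalois k K] :
    Presieve.singleton (GalTwLib.ptK k K) ∈ Scheme.etalePrecoverage (Spec (CommRingCat.of k)) := by
  haveI := GalTwLib.etale_ptK (k := k) (K := K)
  haveI := GalTwLib.surjective_ptK (k := k) (K := K)
  rw [show Presieve.singleton (GalTwLib.ptK k K) = Presieve.ofArrows _ (fun _ : PUnit.{1} => GalTwLib.ptK k K) from
    (Presieve.ofArrows_pUnit (GalTwLib.ptK k K)).symm, Scheme.etalePrecoverage, Scheme.ofArrows_mem_precoverage_iff]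
  exact ⟨fun x => ⟨PUnit.unit, (GalTwLib.ptK k K).surjective x⟩, fun _ => inferInstance⟩

variable [Finite k] (G : Over (Spec (CommRingCat.of k))) [GrpObj G] [IsFinite G.hom] [Etale G.hom]
  {K' : Precoverage Scheme.{u}} [K'.HasIsos]

/-- The mass of the classifying stack is one. -/
theorem mass_BG (h₁ : Scheme.etalePrecoverage ≤ K') (h₂ : K' ≤ Scheme.fppfPrecoverage) :
    Finite (Quotient (isIsomorphicSetoid (Fib (AlgSt.trivAction G) K' (𝟙_ (Over (Spec (CommRingCat.of k))))))) ∧
      (∀ ξ : Fib (AlgSt.trivAction G) K' (𝟙_ (Over (Spec (CommRingCat.of k)))), Finite (Aut ξ)) ∧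
      ∑ᶠ c : Quotient (isIsomorphicSetoid (Fib (AlgSt.trivAction G) K' (𝟙_ (Over (Spec (CommRingCat.of k)))))),
        ((Nat.card (Aut c.out) : ℚ))⁻¹ = 1 := by
  obtain ⟨K, _, _, _, _, _, F, hF, hfin, hord, hdvd⟩ := exists_split G
  haveI := hfin
  have hp := galCover (k := k) (K := K)
  have hT : IsTerminal (𝟙_ (Over (Spec (CommRingCat.of k)))) := IsTerminal.ofUnique _
  haveI : Unique (SGA7.pt (K := k) K ⟶ 𝟙_ (Over (Spec (CommRingCat.of k)))) := ⟨⟨toUnit _⟩, fun _ => toUnit_unique _ _⟩
  haveI : IsAffine G.left := isAffine_of_isAffineHom G.hom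
  haveI : Finite (K ≃ₐ[k] K) := inferInstance
  have hsec : ∀ ξ : Fib (AlgSt.trivAction G) K' (𝟙_ (Over (Spec (CommRingCat.of k)))),
      Nonempty (SGA7.pt (K := k) K ⟶ ξ.1.P) := by
    rintro ⟨A, hA⟩
    change A.base = _ at hA
    let A' : AlgSt.QuotObj Scheme.fppfPrecoverage G (AlgSt.trivAction G) :=
      { base := A.base, P := A.P, act := A.act, π := A.π, cart := A.cart, φ := A.φ, eqv := A.eqv
        loc := by
          obtain ⟨R, hR, h⟩ := A.loc
          exact ⟨R, h₂ _ hR, h⟩ }
    haveI : LocallyOfFinitePresentation A.π.left :=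
      (locP_yon_map_iff _).1 (QuotStLib.locP_torsor @LocallyOfFinitePresentation isLocalOnBase_fppf_lfp inferInstance A')
    haveI : Surjective A.π.left := surjective_left_of_isSurjectiveMor (QuotStLib.isSurjectiveMor_torsor A')
    haveI : IsIso A.base.hom := by rw [hA]; exact inferInstanceAs (IsIso (𝟙 _))
    haveI : LocallyOfFiniteType A.P.hom := by rw [← Over.w A.π]; infer_instance
    haveI : Nonempty ↥A.P.left := by
      obtain ⟨z, -⟩ := A.π.left.surjective ((inv A.base.hom) default)
      exact ⟨z⟩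
    haveI := isIso_shear (A := A) hT hA
    let kb := AlgebraicClosure k
    obtain ⟨s⟩ : Nonempty (SGA7.pt (K := k) kb ⟶ A.P) := by
      haveI : JacobsonSpace ↥A.P.left := LocallyOfFiniteType.jacobsonSpace A.P.hom
      obtain ⟨z, -, hz⟩ := nonempty_inter_closedPoints (Z := (Set.univ : Set A.P.left))
        ⟨Classical.arbitrary _, trivial⟩ isOpen_univ.isLocallyClosed
      obtain ⟨t, ht, -⟩ := GeoPtLib.exists_point A.P.hom (K := kb) hz
      exact ⟨Over.homMk t ht⟩
    haveI := finite_pts_finite G kb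
    haveI : Finite (SGA7.Pts kb A.P) := Finite.of_surjective _ (card_pts_torsor A.act s).2
    refine exists_point_of_card_le A.P fun d hd hdn => hdvd d hd (hdn.trans ?_)
    exact Nat.card_le_card_of_surjective _ (card_pts_torsor A.act s).2
  obtain ⟨f₁, f₂, f₃⟩ := mass_data (K := K') hp hT hsec
  refine ⟨f₁, f₂, f₃.trans ?_⟩
  have hV : realised (s := fun σ => SGA7.specAut (K := k) σ) (AlgSt.trivAction G) K' hT =
      {d | ∀ σ τ : K ≃ₐ[k] K, d.1 (σ * τ) = d.1 σ * σ • d.1 τ} := by
    ext ⟨z, x⟩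
    constructor
    · rintro ⟨ξ, q, e⟩ σ τ
      have := dataOf_cocycle (s := fun σ => SGA7.specAut (K := k) σ) hT ξ q (σ := σ) (τ := τ) (ρ := σ * τ)
        (GalTw.specAut_mul K σ τ)
      rw [e] at this
      exact this
    · intro hz
      obtain ⟨Yt, a, _, ha, q, hq⟩ := exists_torsor z hz
      refine exists_obj hp hT a q z hq x (fun σ => toUnit_unique _ _) ⟨_, h₁ _ (singleton_mem_etale K), ?_⟩
      rintro _ _ ⟨⟩
      exact ⟨q.left, (congrArg (q.left ≫ ·) ((Category.comp_id _).symm.trans (Over.w (hT.from Yt)))).trans (Over.w q)⟩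
  rw [hV]
  have hc := cocycle_bijective (H := SGA7.Pts K G) F hF hord
  have e : Nat.card {d : ((K ≃ₐ[k] K) → SGA7.Pts K G) × (SGA7.pt (K := k) K ⟶ 𝟙_ (Over (Spec (CommRingCat.of k)))) |
      ∀ σ τ : K ≃ₐ[k] K, d.1 (σ * τ) = d.1 σ * σ • d.1 τ} = Nat.card (SGA7.Pts K G) :=
    Nat.card_congr ((⟨fun d => ⟨d.1.1, d.2⟩, fun z => ⟨(z.1, default), z.2⟩,
      fun d => Subtype.ext (Prod.ext rfl (Subsingleton.elim _ _)), fun z => rfl⟩ :
        _ ≃ {z : (K ≃ₐ[k] K) → SGA7.Pts K G // ∀ σ τ, z (σ * τ) = z σ * σ • z τ}).trans (Equiv.ofBijective _ hc))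
  rw [e, div_self (Nat.cast_ne_zero.2 (Nat.card_pos).ne')]

end StackCountLib
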