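import Groth.Agent.StackCountLib.Classify
import Groth.Prelude.Def_NonAbH2

/-!
# Torsor schemes as objects of the classifying stack
-/

set_option autoImplicit false
set_option linter.all false
set_option backward.isDefEq.respectTransparency false
set_option backward.isDefEq.respectTransparency.types false

noncomputable section

universe u

open CategoryTheory CategoryTheory.Limits MonoidalCategory CartesianMonoidalCategory AlgebraicGeometry
open scoped MonObj

namespace StackCountLib

variable {S : Scheme.{u}} (G : Over S) [GrpObj G] (K : Precoverage Scheme.{u}) [K.HasIsos]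

theorem loc_iff (X : Over S) :
    NonAbH1.IsLocallyTrivialFor K (Over.mk (toUnit X).left : Over (𝟙_ (Over S)).left) ↔
      NonAbH1.IsLocallyTrivialFor K X := by
  rw [show (toUnit X).left = X.hom from (Category.comp_id _).symm.trans (Over.w (toUnit X))]
  exact Iff.rfl

/-- A torsor scheme as an object of the fibre. -/
def ofTorsor (P : NonAbH1.TorsorSch G K) : Fib (AlgSt.trivAction G) K (𝟙_ (Over S)) :=
  ⟨{ base := 𝟙_ (Over S), P := P.X, act := P.act, π := toUnit P.X
     cart := by
      haveI : IsIso (lift P.act.act (snd G P.X)) := P.isTorsor.1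
      refine IsPullback.of_isLimit (c := PullbackCone.mk P.act.act (snd G P.X) (toUnit_unique _ _)) ?_
      refine PullbackCone.isLimitAux' _ fun c => ⟨lift c.fst c.snd ≫ inv (lift P.act.act (snd G P.X)), ?_, ?_, ?_⟩
      · show _ ≫ P.act.act = _
        rw [Category.assoc, show inv (lift P.act.act (snd G P.X)) ≫ P.act.act = fst P.X P.X by
          rw [IsIso.inv_comp_eq, lift_fst], lift_fst]
      · show _ ≫ snd G P.X = _
        rw [Category.assoc, show inv (lift P.act.act (snd G P.X)) ≫ snd G P.X = snd P.X P.X by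
          rw [IsIso.inv_comp_eq, lift_snd], lift_snd]
      · intro m h₁ h₂
        rw [IsIso.eq_comp_inv, comp_lift]
        exact congrArg₂ lift h₁ h₂
     loc := (loc_iff K P.X).2 P.isTorsor.2
     φ := toUnit P.X, eqv := toUnit_unique _ _ }, rfl⟩

variable {G K}

theorem exists_iso_ofTorsor (ξ : Fib (AlgSt.trivAction G) K (𝟙_ (Over S))) :
    ∃ P : NonAbH1.TorsorSch G K, Nonempty (ofTorsor G K P ≅ ξ) := by
  obtain ⟨⟨b, P, a, π, cart, loc, φ, eqv⟩, (hA : b = _)⟩ := ξ
  subst hA
  have hπ : π = toUnit P := toUnit_unique _ _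
  subst hπ
  have hs := isIso_shear (S := S) (G := G) (K := K) (aX := AlgSt.trivAction G) (IsTerminal.ofUnique _)
    (A := ⟨𝟙_ (Over S), P, a, toUnit P, cart, loc, φ, eqv⟩) rfl
  refine ⟨⟨P, a, hs, (loc_iff K P).1 loc⟩, ?_⟩
  have hφ : φ = toUnit P := toUnit_unique _ _
  subst hφ
  exact ⟨Iso.refl _⟩

/-- Isomorphisms in the fibre are equivariant isomorphisms. -/
def isoEquiv (P Q : NonAbH1.TorsorSch G K) :
    (ofTorsor G K P ≅ ofTorsor G K Q) ≃ NonAbH1.EquivIso P.act Q.act where
  toFun φ := ⟨⟨φ.hom.1.top, φ.inv.1.top,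
      congrArg (fun t => t.1.top) φ.hom_inv_id, congrArg (fun t => t.1.top) φ.inv_hom_id⟩, φ.hom.1.eqv⟩
  invFun e := fibIso (ξ := ofTorsor G K P) (ξ' := ofTorsor G K Q)
    { hom := ⟨𝟙 _, e.iso.hom, e.comm, IsPullback.of_horiz_isIso ⟨toUnit_unique _ _⟩, toUnit_unique _ _⟩
      inv := ⟨𝟙 _, e.iso.inv, (show Q.act.act ≫ e.iso.inv = (G ◁ e.iso.inv) ≫ P.act.act by
          rw [← cancel_mono e.iso.hom, Category.assoc, Iso.inv_hom_id, Category.comp_id, Category.assoc, e.comm,
            ← MonoidalCategory.whiskerLeft_comp_assoc, Iso.inv_hom_id, MonoidalCategory.whiskerLeft_id,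
            Category.id_comp]),
        IsPullback.of_horiz_isIso ⟨toUnit_unique _ _⟩, toUnit_unique _ _⟩
      hom_inv_id := AlgSt.QuotObj.hom_ext (Category.id_comp _) e.iso.hom_inv_id
      inv_hom_id := AlgSt.QuotObj.hom_ext (Category.id_comp _) e.iso.inv_hom_id }
    (by show 𝟙 (𝟙_ (Over S)) = eqToHom rfl ≫ eqToHom rfl; simp)
  left_inv φ := Iso.ext (Functor.Fiber.hom_ext (AlgSt.QuotObj.hom_ext (toUnit_unique _ _) rfl))
  right_inv e := by obtain ⟨i, hi⟩ := e; rfl

end StackCountLib
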