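import Groth.Agent.StackCountLib.Twist
import Groth.Agent.GalTwLib.Grp

/-!
# Galois covers of the point
-/

set_option autoImplicit false
set_option linter.all false
set_option backward.isDefEq.respectTransparency false
set_option backward.isDefEq.respectTransparency.types false

noncomputable section

universe u

open CategoryTheory CategoryTheory.Limits MonoidalCategory CartesianMonoidalCategory AlgebraicGeometry
open scoped MonObj

namespace StackCountLib

variable {k K : Type u} [Field k] [Field K] [Algebra k K]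

local notation "pK" => SGA7.pt (K := k) K

set_option quotPrecheck false in
local notation "Γ'" => K ≃ₐ[k] K

theorem galMap_eq (T : Over (Spec (CommRingCat.of k))) (σ : Γ') :
    GalTw.galMap K σ T = (T ◁ SGA7.specAut (K := k) σ).left := by
  apply pullback.hom_ext
  · rw [GalTw.galMap_fst]
    exact (congrArg Over.Hom.left (whiskerLeft_fst T (SGA7.specAut (K := k) σ))).symm
  · rw [GalTw.galMap_snd]
    exact (congrArg Over.Hom.left (whiskerLeft_snd T (SGA7.specAut (K := k) σ))).symm

theorem galCover [FiniteDimensional k K] [IsGalois k K] :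
    GalCover pK Γ' (fun σ => SGA7.specAut (K := k) σ) := by
  refine ⟨fun T => ⟨fun {Z} g g' h => ?_⟩, fun T X a ha => ?_⟩
  · haveI := GalTwLib.epi_fst (K := K) T
    have h' : pullback.fst T.hom (GalTwLib.ptK k K) ≫ g.left = pullback.fst T.hom (GalTwLib.ptK k K) ≫ g'.left :=
      congrArg Over.Hom.left h
    exact Over.OverMorphism.ext ((cancel_epi _).1 h')
  · obtain ⟨g, hg⟩ := GalTwLib.exists_desc_bc (K := K) (Y := T) a.left fun σ => by
      rw [galMap_eq]
      exact congrArg Over.Hom.left (ha σ)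
    haveI := GalTwLib.epi_fst (K := K) T
    refine ⟨Over.homMk g ((cancel_epi (pullback.fst T.hom (GalTwLib.ptK k K))).1 ?_), Over.OverMorphism.ext hg⟩
    rw [reassoc_of% hg]
    exact (Over.w a).trans (Over.w (fst T pK)).symm

variable {X Y : Over (Spec (CommRingCat.of k))}

/-- The morphism over the field of a morphism to a scheme over `k`. -/
def up (f : Y ⊗ pK ⟶ X) : GalTw.bcK K Y ⟶ GalTw.bcK K X :=
  Over.homMk (pullback.lift f.left (pullback.snd _ _) ((Over.w f).trans pullback.condition))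
    (pullback.lift_snd _ _ _)

/-- The morphism to a scheme over `k` of a morphism over the field. -/
def down (h : GalTw.bcK K Y ⟶ GalTw.bcK K X) : Y ⊗ pK ⟶ X :=
  Over.homMk (h.left ≫ pullback.fst _ _) (by
    rw [Category.assoc, pullback.condition, ← Category.assoc]
    have e : h.left ≫ pullback.snd X.hom (SGA7.pt (K := k) K).hom = pullback.snd Y.hom (SGA7.pt (K := k) K).hom :=
      Over.w h
    rw [e, ← pullback.condition]
    exact Over.w (fst Y pK))

theorem down_up (f : Y ⊗ pK ⟶ X) : down (up f) = f := Over.OverMorphism.ext (pullback.lift_fst _ _ _)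

theorem up_down (h : GalTw.bcK K Y ⟶ GalTw.bcK K X) : up (down h) = h :=
  Over.OverMorphism.ext (pullback.hom_ext (pullback.lift_fst _ _ _) ((pullback.lift_snd _ _ _).trans (Over.w h).symm))

theorem down_comp {Z : Over (Spec (CommRingCat.of k))} (h : GalTw.bcK K Y ⟶ GalTw.bcK K X)
    (h' : GalTw.bcK K X ⟶ GalTw.bcK K Z) : down (h ≫ h') = lift (down h) (snd Y pK) ≫ down h' := by
  refine Over.OverMorphism.ext ?_
  show (h.left ≫ h'.left) ≫ pullback.fst _ _ = (lift (down h) (snd Y pK)).left ≫ h'.left ≫ pullback.fst _ _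
  rw [Category.assoc]
  congr 1
  apply pullback.hom_ext
  · exact ((congrArg Over.Hom.left (lift_fst (down h) (snd Y pK))).symm : _)
  · exact (Over.w h).trans (congrArg Over.Hom.left (lift_snd (down h) (snd Y pK))).symm

theorem down_id : down (𝟙 (GalTw.bcK K X)) = fst X pK := Over.OverMorphism.ext (Category.id_comp _)

theorem down_twHom (σ : Γ') (h : GalTw.bcK K Y ⟶ GalTw.bcK K X) :
    down (GalTw.twHom σ h) = (Y ◁ SGA7.specAut (K := k) σ) ≫ down h := by
  refine Over.OverMorphism.ext ?_
  show (GalTw.galMap K σ Y ≫ h.left ≫ GalTw.galMap K σ⁻¹ X) ≫ pullback.fst _ _ = _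
  rw [galMap_eq, Category.assoc, Category.assoc, GalTw.galMap_fst]
  rfl

variable {G : Over (Spec (CommRingCat.of k))} [GrpObj G]

/-- Right translation. -/
def rho (g : SGA7.Pts K G) : G ⊗ pK ⟶ G := fst G pK * (snd G pK ≫ g)

theorem lift_rho (f : Y ⊗ pK ⟶ G) (g : SGA7.Pts K G) :
    lift f (snd Y pK) ≫ rho g = f * (snd Y pK ≫ g) := by
  rw [rho, MonObj.comp_mul, lift_fst, lift_snd_assoc]

/-- Right translation as an automorphism over the field. -/
def rhoAut (g : SGA7.Pts K G) : Aut (GalTw.bcK K G) where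
  hom := up (rho g)
  inv := up (rho g⁻¹)
  hom_inv_id := by
    rw [← up_down (up (rho g) ≫ up (rho g⁻¹)), ← up_down (𝟙 (GalTw.bcK K G))]
    congr 1
    rw [down_comp, down_up, down_up, lift_rho, rho, mul_assoc, ← MonObj.comp_mul, mul_inv_cancel, MonObj.comp_one,
      mul_one, down_id]
  inv_hom_id := by
    rw [← up_down (up (rho g⁻¹) ≫ up (rho g)), ← up_down (𝟙 (GalTw.bcK K G))]
    congr 1
    rw [down_comp, down_up, down_up, lift_rho, rho, mul_assoc, ← MonObj.comp_mul, inv_mul_cancel, MonObj.comp_one,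
      mul_one, down_id]

/-- The torsor of a cocycle exists. -/
theorem exists_torsor [FiniteDimensional k K] [IsGalois k K] [IsAffine G.left] (z : Γ' → SGA7.Pts K G)
    (hzc : ∀ σ τ, z (σ * τ) = z σ * σ • z τ) :
    ∃ (Y : Over (Spec (CommRingCat.of k))) (a : AlgGrp.Action G Y), IsAffine Y.left ∧
      IsIso (lift a.act (snd G Y)) ∧ ∃ q : pK ⟶ Y, ∀ σ : Γ', lift (z σ) (σ • q) ≫ a.act = q := by
  let c : GpH1.OneCocycle Γ' (Aut (GalTw.bcK K G)) := ⟨fun σ => rhoAut (z σ)⁻¹, fun σ τ => by
    refine Iso.ext ?_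
    show up (rho (z (σ * τ))⁻¹) = GalTw.twHom σ (up (rho (z τ)⁻¹)) ≫ up (rho (z σ)⁻¹)
    rw [← up_down (GalTw.twHom σ (up (rho (z τ)⁻¹)) ≫ up (rho (z σ)⁻¹))]
    congr 1
    rw [down_comp, down_twHom, down_up, down_up, lift_rho, hzc, mul_inv_rev]
    simp only [rho, MonObj.comp_mul, whiskerLeft_fst, whiskerLeft_snd_assoc, mul_assoc, GalTw.pts_smul_def,
      GrpObj.comp_inv]⟩
  haveI : IsAffineHom (GalTwLib.ptK k K) := inferInstanceAs (IsAffineHom (Spec.map _))
  haveI : IsAffineHom (pullback.fst G.hom (GalTwLib.ptK k K)) := MorphismProperty.pullback_fst (P := @IsAffineHom) _ _ inferInstance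
  haveI haff : IsAffine (GalTw.bcK K G).left := isAffine_of_isAffineHom (pullback.fst G.hom (GalTwLib.ptK k K))
  obtain ⟨Y, hY, φ, hφ⟩ := GalTwLib.exists_isTwist_of (fun Z _ => ⟨⊤, isAffineOpen_top _, fun x _ => trivial⟩) c
  have hz : ∀ σ : Γ', (Y ◁ SGA7.specAut (K := k) σ) ≫ down φ.hom = down φ.hom * (snd Y pK ≫ z σ) := fun σ => by
    have h := congrArg Iso.hom (hφ σ)
    rw [GalTw.cocycle_apply_hom] at h
    change (GalTw.twIso σ φ).inv ≫ φ.hom = up (rho (z σ)⁻¹) at h
    rw [Iso.inv_comp_eq, GalTw.twIso_hom] at h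
    have h' := congrArg down h
    rw [down_comp, down_twHom, down_up, lift_rho, GrpObj.comp_inv] at h'
    exact mul_inv_eq_iff_eq_mul.1 h'.symm
  obtain ⟨a, ha, q, hq⟩ := exists_torsor_of_twist (galCover (k := k) (K := K)) z (down φ.hom) (down φ.inv)
    (by rw [← down_comp, φ.hom_inv_id, down_id]) (by rw [← down_comp, φ.inv_hom_id, down_id]) hz
  exact ⟨Y, a, hY haff, ha, q, hq⟩

end StackCountLib
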