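import Groth.Agent.StackCountLib.BGFinite
import Groth.Agent.StackCountLib.GalCount
import Groth.Agent.LangGenLib.Pts
import Groth.Agent.LangGenLib.Cocycle

/-!
# Models over a finite field of orbits stable under Galois
-/

set_option autoImplicit false
set_option linter.all false
set_option backward.isDefEq.respectTransparency false
set_option backward.isDefEq.respectTransparency.types false

noncomputable section

universe u

open CategoryTheory CategoryTheory.Limits MonoidalCategory CartesianMonoidalCategory AlgebraicGeometry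
open scoped MonObj

attribute [-instance] CategoryTheory.Hom.commGroup

namespace StackCountLib

/-- An orbit stable under the Galois group contains the image of a rational torsor. -/
theorem exists_model (k : Type u) [Field k] [Finite k] (kb : Type u) [Field kb] [Algebra k kb] [IsAlgClosure k kb]
    {G X : Over (Spec (CommRingCat.of k))} [GrpObj G] [IsAffineHom G.hom] [LocallyOfFiniteType G.hom]
    [LocallyOfFiniteType X.hom] (aX : AlgGrp.Action G X) (x : SGA7.Pts kb X)
    (h : ∀ σ : kb ≃ₐ[k] kb, ∃ g : SGA7.Pts kb G, lift g x ≫ aX.act = σ • x) :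
    ∃ (Y : Over (Spec (CommRingCat.of k))) (a : AlgGrp.Action G Y) (φ : Y ⟶ X) (q : SGA7.Pts kb Y),
      IsIso (lift a.act (snd G Y)) ∧ NonAbH1.IsLocallyTrivialFor Scheme.etalePrecoverage Y ∧
      a.act ≫ φ = (G ◁ φ) ≫ aX.act ∧ q ≫ φ = x := by
  classical
  haveI : IsAlgClosed kb := IsAlgClosure.isAlgClosed k
  haveI : Algebra.IsAlgebraic k kb := IsAlgClosure.isAlgebraic
  haveI : Normal k kb := IsAlgClosure.normal k kb
  haveI : IsGalois k kb := ⟨⟩
  haveI : Fintype k := Fintype.ofFinite k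
  haveI : IsAffine G.left := isAffine_of_isAffineHom G.hom
  haveI : QuasiCompact G.hom := inferInstance
  let π₀ : kb ≃ₐ[k] kb := FiniteField.frobeniusAlgEquivOfAlgebraic k kb
  have hπ : ∀ y : kb, π₀ y = y ^ Nat.card k := fun y => by
    rw [Nat.card_eq_fintype_card]; rfl
  obtain ⟨g, hg⟩ := h π₀
  have hc : lift g⁻¹ (π₀ • x) ≫ aX.act = x := by
    rw [← hg, act_assoc, inv_mul_cancel, QuotStLib.act_one]
  obtain ⟨z, hz⟩ := (LangGenLib.cocycle_frob k kb π₀ hπ (SGA7.Pts kb G) (fun a => LangGenLib.isOpen_stab a)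
    (fun a => LangGenLib.exists_finite_subgroup a)).1.2 g⁻¹
  replace hz : z.1 π₀ = g⁻¹ := hz
  obtain ⟨K₁, _, _, hK₁⟩ := exists_normal_field (k := k) (kb := kb) (fun _ : PUnit.{u+1} => z)
  obtain ⟨K₂, _, hK₂⟩ := LangGenLib.exists_field_fix X x
  let K : IntermediateField k kb := IntermediateField.normalClosure k ↥(K₁ ⊔ K₂) kb
  haveI : FiniteDimensional k K := normalClosure.is_finiteDimensional k ↥(K₁ ⊔ K₂) kb
  haveI : Normal k K := normalClosure.normal k ↥(K₁ ⊔ K₂) kb
  haveI : Finite K := Module.finite_of_finite k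
  haveI : IsGalois k K := inferInstance
  have hle : K.fixingSubgroup ≤ K₁.fixingSubgroup ⊓ K₂.fixingSubgroup := by
    refine le_inf ?_ ?_
    · exact IntermediateField.fixingSubgroup_antitone (le_sup_left.trans (IntermediateField.le_normalClosure (K₁ ⊔ K₂)))
    · exact IntermediateField.fixingSubgroup_antitone (le_sup_right.trans (IntermediateField.le_normalClosure (K₁ ⊔ K₂)))
  have hN : ∀ σ ∈ K.fixingSubgroup, z.1 σ = 1 := fun σ hσ => hK₁ PUnit.unit σ (hle hσ).1
  have hx : ∀ σ ∈ K.fixingSubgroup, σ • x = x := fun σ hσ => hK₂ σ (hle hσ).2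
  let E : Subgroup (kb ≃ₐ[k] kb) :=
    { carrier := {σ | lift (z.1 σ) (σ • x) ≫ aX.act = x}
      one_mem' := by
        show lift (z.1 1) ((1 : kb ≃ₐ[k] kb) • x) ≫ aX.act = x
        rw [GalTw.oneCocycle_one z.1, one_smul, QuotStLib.act_one]
      mul_mem' := fun {σ τ} (hσ : lift (z.1 σ) (σ • x) ≫ aX.act = x) (hτ : lift (z.1 τ) (τ • x) ≫ aX.act = x) => by
        show lift (z.1 (σ * τ)) ((σ * τ) • x) ≫ aX.act = x
        have e : lift (σ • z.1 τ) (σ • τ • x) ≫ aX.act = σ • x :=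
          (comp_act aX (SGA7.specAut σ) (z.1 τ) (τ • x)).symm.trans (congrArg (SGA7.specAut σ ≫ ·) hτ)
        rw [z.1.2, ← act_assoc, mul_smul, e]
        exact hσ
      inv_mem' := fun {σ} (hσ : lift (z.1 σ) (σ • x) ≫ aX.act = x) => by
        show lift (z.1 σ⁻¹) (σ⁻¹ • x) ≫ aX.act = x
        have e1 : z.1 σ⁻¹ * σ⁻¹ • z.1 σ = 1 := by rw [← z.1.2, inv_mul_cancel, GalTw.oneCocycle_one z.1]
        have e2 : lift (σ⁻¹ • z.1 σ) x ≫ aX.act = σ⁻¹ • x := by
          have h2 : lift (σ⁻¹ • z.1 σ) (σ⁻¹ • σ • x) ≫ aX.act = σ⁻¹ • x :=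
            (comp_act aX (SGA7.specAut σ⁻¹) (z.1 σ) (σ • x)).symm.trans (congrArg (SGA7.specAut σ⁻¹ ≫ ·) hσ)
          rwa [inv_smul_smul] at h2
        rw [← e2, act_assoc, e1, QuotStLib.act_one] }
  have hE : ∀ σ, σ ∈ E := by
    have hπE : π₀ ∈ E := by
      show lift (z.1 π₀) (π₀ • x) ≫ aX.act = x
      rw [hz]; exact hc
    have hfE : ∀ σ ∈ K.fixingSubgroup, σ ∈ E := fun σ hσ => by
      show lift (z.1 σ) (σ • x) ≫ aX.act = x
      rw [hN σ hσ, hx σ hσ, QuotStLib.act_one]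
    intro σ
    obtain ⟨⟨j, hjlt⟩, hj⟩ := (FiniteField.bijective_frobeniusAlgEquivOfAlgebraic_pow k K).2 (σ.restrictNormal K)
    have hm : (π₀ ^ j)⁻¹ * σ ∈ K.fixingSubgroup := by
      rw [IntermediateField.mem_fixingSubgroup_iff]
      intro y hy
      have h2 := AlgEquiv.restrictNormal_commutes σ K ⟨y, hy⟩
      rw [← hj] at h2
      simp only [AlgEquiv.coe_pow, FiniteField.coe_frobeniusAlgEquivOfAlgebraic_iterate] at h2
      have h1 : σ y = (π₀ ^ j) y := by
        refine h2.symm.trans ?_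
        rw [AlgEquiv.coe_pow, FiniteField.coe_frobeniusAlgEquivOfAlgebraic_iterate]
        rfl
      rw [AlgEquiv.mul_apply, h1, ← AlgEquiv.mul_apply, inv_mul_cancel, AlgEquiv.one_apply]
    have := E.mul_mem (E.pow_mem hπE j) (hfE _ hm)
    rwa [mul_inv_cancel_left] at this
  have hdep : ∀ σ τ : kb ≃ₐ[k] kb, AlgEquiv.restrictNormalHom (F := k) K σ = AlgEquiv.restrictNormalHom (F := k) K τ →
      z.1 σ = z.1 τ := fun σ τ he => by
    have hm : τ⁻¹ * σ ∈ K.fixingSubgroup :=
      mem_fix_of_rs_eq_one K (by rw [map_mul, map_inv, he, inv_mul_cancel])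
    conv_lhs => rw [← mul_inv_cancel_left τ σ, z.1.2, hN _ hm, smul_one, mul_one]
  choose sec hsec using rs_surjective (k := k) (kb := kb) K
  have hval : ∀ σ, ∀ τ ∈ K.fixingSubgroup, τ • z.1 σ = z.1 σ := fun σ τ hτ => by
    have h := z.1.2 τ σ
    rw [hN τ hτ, one_mul] at h
    rw [← h]
    exact hdep _ _ (by rw [map_mul, rs_eq_one K hτ, one_mul])
  choose y hy using fun σ => exists_res_val K (hval σ)
  let w : (K ≃ₐ[k] K) → SGA7.Pts K G := fun τ => y (sec τ)
  have hw : ∀ σ, res (IntermediateField.val K) (w (AlgEquiv.restrictNormalHom (F := k) K σ)) = z.1 σ :=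
    fun σ => (hy _).trans (hdep _ _ (hsec _))
  have hwc : ∀ σ τ, w (σ * τ) = w σ * σ • w τ := fun σ τ => by
    obtain ⟨σ, rfl⟩ := rs_surjective (k := k) (kb := kb) K σ
    obtain ⟨τ, rfl⟩ := rs_surjective (k := k) (kb := kb) K τ
    refine res_injective (IntermediateField.val K) G ?_
    rw [← map_mul, hw, z.1.2]
    show _ = resHom (IntermediateField.val K) G (_ * _)
    rw [map_mul]
    show _ = res _ _ * res _ _
    rw [hw, ← smul_res_val, hw]
  obtain ⟨x₀, hx₀⟩ := exists_res_val K hx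
  have hwx : ∀ σ, lift (w σ) (σ • x₀) ≫ aX.act = x₀ := fun σ => by
    obtain ⟨σ, rfl⟩ := rs_surjective (k := k) (kb := kb) K σ
    refine res_injective (IntermediateField.val K) X ?_
    rw [res_act, hw, ← smul_res_val, hx₀]
    exact hE σ
  obtain ⟨Y, a, _, ha, q, hq⟩ := exists_torsor w hwc
  obtain ⟨φ, hφ, hφ'⟩ := exists_equivariant (a := a) aX (galCover (k := k) (K := K)) q x₀ fun σ => by
    show lift (dlt a q (σ • q)) (σ • x₀) ≫ aX.act = x₀
    rw [← dlt_unique a (hq σ)]; exact hwx σ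
  refine ⟨Y, a, φ, res (IntermediateField.val K) q, ha, ?_, hφ, ?_⟩
  · refine ⟨_, singleton_mem_etale K, ?_⟩
    rintro _ _ ⟨⟩
    exact ⟨q.left, Over.w q⟩
  · rw [← res_comp, hφ', hx₀]

end StackCountLib
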