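import Groth.Agent.StackCountLib.Tors

/-!
# The torsor of a cocycle
-/

set_option autoImplicit false
set_option linter.all false
set_option backward.isDefEq.respectTransparency false
set_option backward.isDefEq.respectTransparency.types false

noncomputable section

universe u w

open CategoryTheory CategoryTheory.Limits MonoidalCategory CartesianMonoidalCategory AlgebraicGeometry
open scoped MonObj

namespace StackCountLib

variable {S : Scheme.{u}} {p : Over S} {Γ : Type w} {s : Γ → (p ⟶ p)}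
variable {G Y : Over S} [GrpObj G]

theorem exists_torsor_of_twist (hp : GalCover p Γ s) (z : Γ → (p ⟶ G)) (φ : Y ⊗ p ⟶ G) (θ : G ⊗ p ⟶ Y)
    (h₁ : lift φ (snd Y p) ≫ θ = fst Y p) (h₂ : lift θ (snd G p) ≫ φ = fst G p)
    (hz : ∀ σ, (Y ◁ s σ) ≫ φ = φ * (snd Y p ≫ z σ)) :
    ∃ a : AlgGrp.Action G Y, IsIso (lift a.act (snd G Y)) ∧
      ∃ q : p ⟶ Y, ∀ σ, lift (z σ) (s σ ≫ q) ≫ a.act = q := by
  have tw : ∀ {T : Over S} (v : T ⟶ Y) (c : T ⟶ p) (σ : Γ),
      lift v (c ≫ s σ) ≫ φ = (lift v c ≫ φ) * (c ≫ z σ) := fun v c σ => by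
    rw [← lift_whiskerLeft, Category.assoc, hz, MonObj.comp_mul, lift_snd_assoc]
  have θφ : ∀ {T : Over S} (f : T ⟶ G) (c : T ⟶ p), lift (lift f c ≫ θ) c ≫ φ = f := fun f c => by
    have := lift f c ≫= h₂
    rwa [← Category.assoc, comp_lift, lift_snd, lift_fst] at this
  have inj : ∀ {T : Over S} {v v' : T ⟶ Y} (c : T ⟶ p), lift v c ≫ φ = lift v' c ≫ φ → v = v' := by
    intro T v v' c h
    have e : ∀ v : T ⟶ Y, lift (lift v c ≫ φ) c ≫ θ = v := fun v => by
      have := lift v c ≫= h₁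
      rwa [← Category.assoc, comp_lift, lift_snd, lift_fst] at this
    rw [← e v, ← e v', h]
  have ext : ∀ {T : Over S} {v v' : T ⟶ Y},
      lift (fst T p ≫ v) (snd T p) ≫ φ = lift (fst T p ≫ v') (snd T p) ≫ φ → v = v' :=
    fun h => hp.hom_ext (inj _ h)
  obtain ⟨act, hact⟩ := hp.desc (G ⊗ Y) Y
    (lift ((fst (G ⊗ Y) p ≫ fst G Y) * (lift (fst (G ⊗ Y) p ≫ snd G Y) (snd _ p) ≫ φ)) (snd _ p) ≫ θ) fun σ => by
      refine inj (snd _ p) (mul_right_cancel (b := snd _ p ≫ z σ) ?_)
      rw [← tw, θφ, ← Category.assoc, comp_lift, MonObj.comp_mul, whisker_fst_assoc, ← Category.assoc _ (lift _ _),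
        comp_lift, whisker_fst_assoc, whiskerLeft_snd, θφ, tw, mul_assoc]
  have key : ∀ {T : Over S} (g : T ⟶ G) (v : T ⟶ Y) (c : T ⟶ p),
      lift (lift g v ≫ act) c ≫ φ = g * (lift v c ≫ φ) := fun g v c => by
    have h := lift (lift g v) c ≫= hact
    rw [lift_fst_assoc] at h
    rw [h, ← Category.assoc, comp_lift, MonObj.comp_mul, lift_fst_assoc, lift_fst, ← Category.assoc _ (lift _ _),
      comp_lift, lift_fst_assoc, lift_snd, lift_snd, θφ]
  let a : AlgGrp.Action G Y :=
    { act := act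
      one_act := by
        refine ext ?_
        rw [← Category.assoc, show fst (𝟙_ (Over S) ⊗ Y) p ≫ (η[G] ▷ Y) = lift (1 : _ ⟶ G) (fst (𝟙_ (Over S) ⊗ Y) p ≫ snd _ Y) by
          refine CartesianMonoidalCategory.hom_ext _ _ ?_ ?_
          · rw [lift_fst, Category.assoc, whiskerRight_fst, ← Category.assoc, Hom.one_def]
            congr 1
          · rw [lift_snd, Category.assoc, whiskerRight_snd],
          key, one_mul, leftUnitor_hom]
      mul_act := by
        refine ext ?_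
        have e₁ : fst ((G ⊗ G) ⊗ Y) p ≫ (μ[G] ▷ Y) =
            lift ((fst _ p ≫ fst (G ⊗ G) Y ≫ fst G G) * (fst _ p ≫ fst (G ⊗ G) Y ≫ snd G G)) (fst _ p ≫ snd _ Y) := by
          refine CartesianMonoidalCategory.hom_ext _ _ ?_ ?_
          · rw [lift_fst, Category.assoc, whiskerRight_fst, ← MonObj.comp_mul, ← MonObj.comp_mul, Hom.mul_def,
              lift_fst_snd, Category.id_comp]
          · rw [lift_snd, Category.assoc, whiskerRight_snd]
        have e₂ : fst ((G ⊗ G) ⊗ Y) p ≫ (α_ G G Y).hom ≫ (G ◁ act) = lift (fst _ p ≫ fst (G ⊗ G) Y ≫ fst G G)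
            (lift (fst _ p ≫ fst (G ⊗ G) Y ≫ snd G G) (fst _ p ≫ snd _ Y) ≫ act) := by
          refine CartesianMonoidalCategory.hom_ext _ _ ?_ ?_
          · rw [lift_fst, Category.assoc, Category.assoc, whiskerLeft_fst, associator_hom_fst]
          · rw [lift_snd, Category.assoc, Category.assoc, whiskerLeft_snd, ← Category.assoc (α_ G G Y).hom,
              ← Category.assoc]
            congr 1
            refine CartesianMonoidalCategory.hom_ext _ _ ?_ ?_
            · simp
            · simp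
        rw [← Category.assoc, e₁, key]
        rw [reassoc_of% e₂, key, key, mul_assoc] }
  refine ⟨a, ?_, lift (1 : p ⟶ G) (𝟙 p) ≫ θ, fun σ => ?_⟩
  · obtain ⟨d, hd⟩ := hp.desc (Y ⊗ Y) G
      ((lift (fst (Y ⊗ Y) p ≫ fst Y Y) (snd _ p) ≫ φ) * (lift (fst (Y ⊗ Y) p ≫ snd Y Y) (snd _ p) ≫ φ)⁻¹) fun σ => by
        rw [MonObj.comp_mul, GrpObj.comp_inv, ← Category.assoc, comp_lift, whisker_fst_assoc, whiskerLeft_snd,
          ← Category.assoc _ (lift _ _), comp_lift, whisker_fst_assoc, whiskerLeft_snd, tw, tw, mul_inv_rev,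
          mul_assoc, mul_inv_cancel_left]
    have kd : ∀ {T : Over S} (v w : T ⟶ Y) (c : T ⟶ p), lift v w ≫ d = (lift v c ≫ φ) * (lift w c ≫ φ)⁻¹ := by
      intro T v w c
      have h := lift (lift v w) c ≫= hd
      rw [lift_fst_assoc] at h
      rw [h, MonObj.comp_mul, GrpObj.comp_inv, ← Category.assoc, comp_lift, lift_fst_assoc, lift_fst, lift_snd,
        ← Category.assoc _ (lift _ _), comp_lift, lift_fst_assoc, lift_snd, lift_snd]
    refine ⟨lift d (snd Y Y), ?_, ?_⟩
    · refine CartesianMonoidalCategory.hom_ext _ _ (hp.hom_ext ?_) ?_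
      · rw [Category.assoc, lift_fst, Category.id_comp, ← Category.assoc, comp_lift,
          kd (fst (G ⊗ Y) p ≫ act) _ (snd _ p), show fst (G ⊗ Y) p ≫ act = lift (fst _ p ≫ fst G Y) (fst _ p ≫ snd G Y) ≫ act by
            rw [← comp_lift, lift_fst_snd, Category.comp_id], key, mul_inv_cancel_right]
      · rw [Category.assoc, lift_snd, Category.id_comp]; exact lift_snd _ _
    · refine CartesianMonoidalCategory.hom_ext _ _ (ext ?_) ?_
      · rw [Category.assoc, lift_fst, Category.id_comp, ← Category.assoc, comp_lift, key,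
          show fst (Y ⊗ Y) p ≫ d = lift (fst _ p ≫ fst Y Y) (fst _ p ≫ snd Y Y) ≫ d by
            rw [← comp_lift, lift_fst_snd, Category.comp_id], kd _ _ (snd _ p), inv_mul_cancel_right]
      · rw [Category.assoc, lift_snd, Category.id_comp]; exact lift_snd _ _
  · refine inj (𝟙 p) ?_
    rw [key, θφ]
    have h := tw (s σ ≫ lift (1 : p ⟶ G) (𝟙 p) ≫ θ) (𝟙 p) σ
    rw [Category.id_comp, Category.id_comp, show lift (s σ ≫ lift (1 : p ⟶ G) (𝟙 p) ≫ θ) (s σ) =
      s σ ≫ lift (lift (1 : p ⟶ G) (𝟙 p) ≫ θ) (𝟙 p) by rw [comp_lift, Category.comp_id], Category.assoc, θφ,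
      MonObj.comp_one] at h
    rw [eq_inv_of_mul_eq_one_left h.symm, mul_inv_cancel]

end StackCountLib
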